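import Groth.Agent.H16Derived.FMKDual.Main
import Groth.Agent.H16Derived.FMKWit.Fibre
import Groth.Agent.H16Derived.FMKWit.Hom
import Groth.Agent.H16Derived.DTrunc
import Mathlib.Algebra.Homology.DerivedCategory.FullyFaithful

/-!
# Duals over the spectrum of a field
-/

set_option autoImplicit false
set_option linter.style.haveILetI false
set_option backward.isDefEq.respectTransparency false

universe u

open CategoryTheory CategoryTheory.Limits AlgebraicGeometry CategoryTheory.Pretriangulated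

attribute [local instance] HasDerivedCategory.standard

namespace Groth.Agent.H16Derived.FMKDual

open DerivedCategory.TStructure (t)
open Groth.Agent.H16Derived.KFlat Groth.Agent.H16Derived.KFlat.Stalk
open Groth.Agent.H16Derived.Dual (T R ro one o σ α)

variable {X : Scheme.{u}}

/-- `RHom(RHom(L, O), O⟦n⟧) ≅ L⟦n⟧`. -/
theorem nonempty_R_ro {L : DCoh.D X} (hL : DCoh.IsPerfect L) (n : ℤ) :
    Nonempty ((R (ro L)).obj ((one X)⟦n⟧) ≅ L⟦n⟧) := by
  haveI := Dual.isIso_w hL
  exact ⟨(Dual.θIso (Dual.isPerfect_ro hL) _).symm ≪≫ tensorShiftLeft _ _ n ≪≫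
    (shiftFunctor _ n).mapIso (σ (one X) _ ≪≫ (Dual.rightUnit X).app _ ≪≫ (asIso (Dual.w L)).symm)⟩

theorem exists_dual_ne_zero' {A : Type u} [CommRing A] (hA : IsField A) (N : Type u) [AddCommGroup N]
    [Module A N] {v : N} (hv : v ≠ 0) : ∃ φ : N →ₗ[A] A, φ v ≠ 0 := by
  letI : Field A := hA.toField
  exact Module.Projective.exists_dual_ne_zero A hv

/-- A nonzero quasi-coherent module over a field has a nonzero functional. -/
theorem exists_ne_zero_hom (K : CommRingCat.{u}) (hK : IsField K) (M : (Spec K).Modules) (hM : Coh.IsQCoh M)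
    (h : ¬ IsZero M) : ∃ q : M ⟶ Coh.structureModule (Spec K), q ≠ 0 := by
  haveI : IsIso M.fromTildeΓ := (isQuasicoherent_iff_isIso_fromTildeΓ M).1 hM
  obtain ⟨N, ⟨e⟩⟩ : ∃ N : ModuleCat.{u} K, Nonempty ((tilde.functor K).obj N ≅ M) :=
    ⟨_, ⟨asIso M.fromTildeΓ⟩⟩
  haveI : (tilde.functor K).Additive := inferInstance
  have hN : ¬ Subsingleton N := fun hs => h ((Functor.map_isZero _
    (ModuleCat.isZero_of_subsingleton N)).of_iso e.symm)
  obtain ⟨v, hv⟩ := not_forall.1 (fun hall : ∀ v : N, v = 0 => hN ⟨fun a b => (hall a).trans (hall b).symm⟩)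
  obtain ⟨φ, hφ⟩ := exists_dual_ne_zero' hK N hv
  refine ⟨e.inv ≫ (tilde.functor K).map (ModuleCat.ofHom φ : N ⟶ ModuleCat.of K K) ≫ tildeSelf.hom, fun h0 => ?_⟩
  have h1 : (tilde.functor K).map (ModuleCat.ofHom φ : N ⟶ ModuleCat.of K K) = 0 := by
    have h2 := congrArg (fun z => e.hom ≫ z ≫ tildeSelf.inv) h0
    simpa using h2
  have h3 : (ModuleCat.ofHom φ : N ⟶ ModuleCat.of K K) = 0 :=
    (tilde.functor K).map_injective (h1.trans (Functor.map_zero _ _ _).symm)
  exact hφ (congr($(h3).hom v))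

/-- Over a field, the dual vanishes above `β` if the object vanishes below `-β`. -/
theorem isZero_ro_point (K : CommRingCat.{u}) (hK : IsField K) [Subsingleton (Spec K)] (L : DCoh.D (Spec K))
    (hL : DCoh.IsPerfect L) (β : ℤ) (h : ∀ j, j < -β → IsZero (DCoh.HD L j)) :
    ∀ j, β < j → IsZero (DCoh.HD (ro L) j) := by
  let Z := Spec K
  haveI : DCoh.HasRΓ Z := GammaAcyclic.hasRΓ Z
  haveI : CompactSpace Z := inferInstance
  have hro := Dual.isPerfect_ro hL
  obtain ⟨-, r, -, hr⟩ := FMKWit.exists_bounds_of_isPerfect hro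
  suffices key : ∀ (n : ℕ) (j : ℤ), β < j → r < j + n → IsZero (DCoh.HD (ro L) j) from
    fun j hj => key (r + 1 - j).toNat j hj (by omega)
  intro n
  induction n with
  | zero => exact fun j _ hj => DerivedCategory.isZero_of_isLE (ro L) r j (by omega)
  | succ n ih =>
    intro j hj hjn
    by_contra hne
    obtain ⟨q, hq⟩ := exists_ne_zero_hom K hK _ (Dual.isQCohD_of_isPerfect hro j) hne
    haveI : DerivedCategory.IsLE (ro L) j :=
      (DerivedCategory.isLE_iff _ _).2 fun l hl => ih l (by omega) (by omega)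
    haveI : DerivedCategory.IsGE ((t.truncGE j).obj (ro L)) j := inferInstanceAs (t.IsGE _ j)
    haveI : DerivedCategory.IsLE ((t.truncGE j).obj (ro L)) j := DTrunc.isLE_truncGE (ro L) j j
    obtain ⟨M, ⟨e⟩⟩ := ((t.truncGE j).obj (ro L)).exists_iso_singleFunctor_obj_of_isGE_of_isLE j
    haveI := DTrunc.isIso_homology_truncGEπ (ro L) j j le_rfl
    let H := DerivedCategory.homologyFunctor Z.Modules j
    let π := (t.truncGEπ j).app (ro L) ≫ e.hom
    let s := DerivedCategory.singleFunctorCompHomologyFunctorIso Z.Modules j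
    haveI : IsIso (H.map ((t.truncGEπ j).app (ro L))) := ‹_›
    haveI : IsIso (H.map π) := by simp only [π, Functor.map_comp]; infer_instance
    let eM : DCoh.HD (ro L) j ≅ M := asIso (H.map π) ≪≫ s.app M
    let φ : ro L ⟶ (DerivedCategory.singleFunctor Z.Modules j).obj (Coh.structureModule Z) :=
      π ≫ (DerivedCategory.singleFunctor Z.Modules j).map (eM.inv ≫ q)
    let eO : (DerivedCategory.singleFunctor Z.Modules j).obj (Coh.structureModule Z) ≅ (one Z)⟦-j⟧ :=
      (((DerivedCategory.singleFunctors Z.Modules).shiftIso (-j) j 0 (by omega)).app _).symm ≪≫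
        (shiftFunctor _ (-j)).mapIso Dual.oneIso
    have hsub : Subsingleton (DCoh.inD Z (Coh.structureModule Z) ⟶ L⟦-j⟧) :=
      (FMKWit.isZero_rΓ_iff L (-j)).1 (FMKWit.isZero_RΓ_of_HD L (-j) (h (-j) (by omega)))
    obtain ⟨eR⟩ := nonempty_R_ro hL (-j)
    have hφ : φ = 0 := by
      let x : ((T Z).obj (one Z)).obj (ro L) ⟶ (one Z)⟦-j⟧ :=
        (σ (one Z) (ro L)).hom ≫ (Dual.rightUnit Z).hom.app _ ≫ φ ≫ eO.hom
      have h1 : (Dual.adjR (ro L)).homEquiv _ _ x = (Dual.adjR (ro L)).homEquiv _ _ 0 :=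
        (cancel_epi Dual.oneIso.hom).1 ((cancel_mono eR.hom).1 (Subsingleton.elim _ _))
      have h2 := ((Dual.adjR (ro L)).homEquiv _ _).injective h1
      have h3 := congrArg (fun z => (Dual.rightUnit Z).inv.app _ ≫ (σ (one Z) (ro L)).inv ≫ z ≫ eO.inv) h2
      simpa [x] using h3
    have h4 : H.map π ≫ H.map ((DerivedCategory.singleFunctor Z.Modules j).map (eM.inv ≫ q)) = 0 := by
      rw [← Functor.map_comp]
      exact (congrArg H.map hφ).trans (Functor.map_zero _ _ _)
    have h5 := congrArg (fun z => inv (H.map π) ≫ z) h4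
    simp only [IsIso.inv_hom_id_assoc, comp_zero] at h5
    have h6 := s.hom.naturality (eM.inv ≫ q)
    have h7 : eM.inv ≫ q = 0 := by
      rw [← cancel_epi (s.hom.app M), comp_zero]
      exact h6.symm.trans ((congrArg (· ≫ _) h5).trans zero_comp)
    exact hq ((cancel_epi eM.inv).1 (h7.trans comp_zero.symm))

end Groth.Agent.H16Derived.FMKDual
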