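import Groth.Agent.H16Derived.FMKDual.LowFree
import Groth.Agent.H16Derived.FMKDual.PointDual
import Groth.Agent.H16Derived.FMKWit.GVVanish

/-!
# Supports of the cohomology of a dual, and GV objects from WIT objects
-/

set_option autoImplicit false
set_option linter.style.haveILetI false
set_option backward.isDefEq.respectTransparency false

universe u

open CategoryTheory CategoryTheory.Limits AlgebraicGeometry

attribute [local instance] HasDerivedCategory.standard

namespace Groth.Agent.H16Derived.FMKDual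

open Groth.Agent.H16Derived.KFlat Groth.Agent.H16Derived.KFlat.Stalk
open Groth.Agent.H16Derived.Dual (T R ro one)

/-- The dual commutes with derived inverse images. -/
theorem nonempty_ro_lpull {X Y : Scheme.{u}} (g : X ⟶ Y) [DCoh.HasLpull g] [DCoh.HasRpush g] {L : DCoh.D Y}
    (hL : DCoh.IsPerfect L) : Nonempty ((DCoh.Lpull g).obj (ro L) ≅ ro ((DCoh.Lpull g).obj L)) := by
  haveI := LeadBrown.isIso_wR g hL (one Y)
  exact ⟨asIso (LeadBrown.wR g L (one Y)) ≪≫
    (R _).mapIso ((DCoh.Lpull g).mapIso Dual.oneIso.symm ≪≫ H0Split.lpullO g ≪≫ Dual.oneIso)⟩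

/-- The dual of a perfect object with cohomology in degrees `≥ c` has `H^j` in codimension `≥ j + c`. -/
theorem le_of_mem_support_ro {Y : Scheme.{u}} [IsLocallyNoetherian Y] (C : DCoh.D Y) (hC : DCoh.IsPerfect C)
    (c : ℤ) (h : ∀ j, j < c → IsZero (DCoh.HD C j)) (y : Y) (p : ℕ)
    (hp : ringKrullDim (Y.presheaf.stalk y) ≤ (p : WithBot ℕ∞)) (j : ℤ)
    (hy : y ∈ CohB1.support (DCoh.HD (ro C) j)) : j + c ≤ p := by
  by_contra hlt
  haveI := hasLpull (Y.fromSpecResidueField y)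
  haveI := QCohD.hasRpush (Y.fromSpecResidueField y)
  haveI : Subsingleton (Spec (Y.residueField y)) := inferInstance
  refine H02CA.FibreVanish.notMem_support_of_lpull _ (Dual.isPerfect_ro hC) y j ?_ hy
  obtain ⟨e⟩ := nonempty_ro_lpull (Y.fromSpecResidueField y) hC
  refine (isZero_ro_point (Y.residueField y) (Field.toIsField _) _
    (isPerfect_lpull (Y.fromSpecResidueField y) hC) (p - c) (fun m hm => ?_) j (by omega)).of_iso
    ((DerivedCategory.homologyFunctor _ j).mapIso e)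
  exact isZero_lpull_below C hC y c p hp h m (by omega)

theorem exists_dim_eq {Y : Scheme.{u}} [IsLocallyNoetherian Y] (y : Y) :
    ∃ p : ℕ, ringKrullDim (Y.presheaf.stalk y) = (p : WithBot ℕ∞) := by
  obtain ⟨p, hp⟩ := H4Depth.exists_nat_supportDim_eq (R := Y.presheaf.stalk y) (M := Y.presheaf.stalk y)
  exact ⟨p, by rw [← hp, Module.supportDim_self_eq_ringKrullDim]⟩

/-- Duals of objects with cohomology in `[d - k', d]` are `GV_{k'}` after shifting by `-d`. -/
theorem gv_of_dual {Y : Scheme.{u}} [IsLocallyNoetherian Y] (C A : DCoh.D Y) (hC : DCoh.IsPerfect C) (d k' : ℕ)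
    (e : ro C ≅ A⟦(d : ℤ)⟧)
    (h : ∀ i : ℤ, i < (d : ℤ) - k' ∨ (d : ℤ) < i → IsZero (DCoh.HD C i)) :
    (∀ i : ℤ, i < 0 → IsZero (DCoh.HD A i)) ∧
    (∀ (i : ℕ) (y : Y), y ∈ CohB1.support (DCoh.HD A (i : ℤ)) →
      ((i - k' : ℕ) : WithBot ℕ∞) ≤ ringKrullDim (Y.presheaf.stalk y)) := by
  have hA : ∀ i : ℤ, Nonempty (DCoh.HD A i ≅ DCoh.HD (ro C) (i - d)) := fun i =>
    ⟨(((DerivedCategory.homologyFunctor Y.Modules 0).shiftIso (d : ℤ) (i - d) i (by omega)).app A).symm ≪≫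
      (DerivedCategory.homologyFunctor _ (i - d)).mapIso e.symm⟩
  haveI : DerivedCategory.IsLE C (d : ℤ) :=
    (DerivedCategory.isLE_iff _ _).2 fun i hi => h i (Or.inr hi)
  haveI : DerivedCategory.IsGE (one Y) 0 := ⟨(DerivedCategory.TStructure.t.ge 0).prop_of_iso Dual.oneIso
    (DerivedCategory.TStructure.t.ge_of_isGE (DCoh.inD Y (Coh.structureModule Y)) 0)⟩
  haveI : DerivedCategory.IsGE (ro C) (-(d : ℤ)) := by
    simpa using Dual.isGE_R (k := C) (d : ℤ) (one Y) 0
  refine ⟨fun i hi => (DerivedCategory.isZero_of_isGE (ro C) (-(d : ℤ)) (i - d) (by omega)).of_iso (hA i).some,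
    fun i y hy => ?_⟩
  obtain ⟨p, hp⟩ := exists_dim_eq y
  have hle := le_of_mem_support_ro C hC ((d : ℤ) - k') (fun j hj => h j (Or.inl hj)) y p hp.le ((i : ℤ) - d)
    ((MVPush.support_iso (hA i).some).le hy)
  rw [hp]
  exact_mod_cast (by omega : i - k' ≤ p)

/-- `Rq_*(Lp^*(-) ⊗ K)` commutes with shifts. -/
theorem nonempty_phi_shift {X Y Z : Scheme.{u}} (p : Z ⟶ X) (q : Z ⟶ Y) [DCoh.HasLpull p] [DCoh.HasRpush q]
    (B : DCoh.D X) (K : DCoh.D Z) (n : ℤ) :
    Nonempty ((DCoh.Rpush q).obj (((T Z).obj ((DCoh.Lpull p).obj (B⟦n⟧))).obj K) ≅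
      ((DCoh.Rpush q).obj (((T Z).obj ((DCoh.Lpull p).obj B)).obj K))⟦n⟧) := by
  letI := lpullCommShift p
  letI := rpushCommShift q
  exact ⟨(DCoh.Rpush q).mapIso (((T Z).mapIso (((DCoh.Lpull p).commShiftIso n).app B)).app K ≪≫
    tensorShiftLeft _ _ n) ≪≫ ((DCoh.Rpush q).commShiftIso n).app _⟩

/-- An object whose dual is a torsion-free module has `H^i` in codimension `> i` for `i > 0`. -/
theorem succ_le_of_dual_torsionFree {Y : Scheme.{u}} [IsLocallyNoetherian Y] (C : DCoh.D Y)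
    (hC : DCoh.IsPerfect C) (G : Y.Modules) (e : DCoh.inD Y G ≅ ro C)
    (htf : ∀ (y : Y) (r : Y.presheaf.stalk y), r ∈ nonZeroDivisors (Y.presheaf.stalk y) →
      ∀ v : G.presheaf.stalk y, r • v = 0 → v = 0)
    (i : ℕ) (hi : 0 < i) (y : Y) (hy : y ∈ CohB1.support (DCoh.HD C (i : ℤ))) :
    ((i + 1 : ℕ) : WithBot ℕ∞) ≤ ringKrullDim (Y.presheaf.stalk y) := by
  obtain ⟨p, hp⟩ := exists_dim_eq y
  rw [hp]
  by_contra hlt
  have hpi : p ≤ i := by
    by_contra hc
    exact hlt (by exact_mod_cast (by omega : i + 1 ≤ p))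
  let K := DCoh.inD Y G
  have hK : DCoh.IsPerfect K := isPerfect_of_iso e.symm (Dual.isPerfect_ro hC)
  haveI := Dual.isIso_w hC
  let eC : ro K ≅ C := Dual.roIso e.symm ≪≫ (asIso (Dual.w C)).symm
  let e0 : DCoh.HD K 0 ≅ G := hdSingle G 0
  have hK0 : ∀ j : ℤ, j < 0 → IsZero (DCoh.HD K j) := fun j hj =>
    DerivedCategory.isZero_of_isGE K 0 j hj
  have htf' : ∀ r ∈ nonZeroDivisors (Y.presheaf.stalk y),
      ∀ v : (DCoh.HD K 0).presheaf.stalk y, r • v = 0 → v = 0 := fun r hr v hv => by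
    let ε := (DerSch.stalkFunctor Y y).mapIso e0
    let v' : ((DerSch.stalkFunctor Y y).obj (DCoh.HD K 0) : Type u) := v
    have h1 : (ε.hom.hom v' : G.presheaf.stalk y) = 0 := htf y r hr _
      ((ε.hom.hom.map_smul r v').symm.trans ((congrArg ε.hom.hom hv).trans (map_zero ε.hom.hom)))
    exact (congr(($(ε.hom_inv_id)).hom v')).symm.trans ((congrArg ε.inv.hom h1).trans (map_zero ε.inv.hom))
  have hy' : y ∈ CohB1.support (DCoh.HD (ro K) (i : ℤ)) :=
    (MVPush.support_iso ((DerivedCategory.homologyFunctor _ (i : ℤ)).mapIso eC)).ge hy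
  haveI := hasLpull (Y.fromSpecResidueField y)
  haveI := QCohD.hasRpush (Y.fromSpecResidueField y)
  haveI : Subsingleton (Spec (Y.residueField y)) := inferInstance
  refine H02CA.FibreVanish.notMem_support_of_lpull _ (Dual.isPerfect_ro hK) y i ?_ hy'
  obtain ⟨e'⟩ := nonempty_ro_lpull (Y.fromSpecResidueField y) hK
  refine (isZero_ro_point (Y.residueField y) (Field.toIsField _) _
    (isPerfect_lpull (Y.fromSpecResidueField y) hK) (max ((p : ℤ) - 1) 0) (fun m hm => ?_) i (by omega)).of_iso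
    ((DerivedCategory.homologyFunctor _ (i : ℤ)).mapIso e')
  exact isZero_lpull_below_tors K hK y 0 p hp.le hK0 htf' m (by omega) (by omega)

end Groth.Agent.H16Derived.FMKDual
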