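import Groth.Agent.H4RSH.GlobalBidual
import Groth.Agent.H4RSH.ProperLocal
import Groth.Agent.H4RSH.Tests
import Groth.Agent.H06EGA12.Transport
import Groth.Agent.H4Depth.LocDepth
import Groth.Agent.H4Depth.IdealDepth
import Mathlib.Algebra.Homology.DerivedCategory.Ext.Basic
import Mathlib.Algebra.Homology.DerivedCategory.FullyFaithful

/-!
# `RHom(M, W)` vanishes below the depth of `W` along the support of `M`
-/

set_option autoImplicit false
set_option linter.style.haveILetI false
set_option backward.isDefEq.respectTransparency false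

universe u

open CategoryTheory CategoryTheory.Limits AlgebraicGeometry

attribute [local instance] HasDerivedCategory.standard

namespace Groth.Agent.H16Derived.FMKDual

open Groth.Agent.H16Derived.KFlat.Stalk (rd)
open Groth.Agent.H16Derived.Dual (T R rA)

variable {Y : Scheme.{u}}

/-- A coherent module on a chart is given by a finite module. -/
theorem exists_module_model [IsLocallyNoetherian Y] {B : Type u} [CommRing B]
    (j : Spec (CommRingCat.of B) ⟶ Y) [IsOpenImmersion j] (M : Y.Modules) (hM : Coh.IsCoh M) :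
    ∃ N : ModuleCat.{u} B, Module.Finite B N ∧
      Nonempty ((rd j).obj (DCoh.inD Y M) ≅
        (DCoh.tildeD (CommRingCat.of B)).obj ((DerivedCategory.singleFunctor (ModuleCat.{u} B) 0).obj N)) := by
  haveI : ∀ R : CommRingCat.{u}, PreservesFiniteLimits (tilde.functor R) := fun R =>
    QCohD.preservesFiniteLimits_tilde_of R
  have hE : DCoh.IsCohD (DCoh.inD Y M) := fun i => by
    rcases lt_trichotomy i 0 with h | rfl | h
    · exact Dual.isCoh_isZero (DerivedCategory.isZero_of_isGE (DCoh.inD Y M) 0 i h)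
    · exact H10Coh.isCoh_of_iso (KFlat.Stalk.hdSingle M 0).symm hM
    · exact Dual.isCoh_isZero (DerivedCategory.isZero_of_isLE (DCoh.inD Y M) 0 i h)
  obtain ⟨L, hL, ⟨e⟩⟩ := H4RSH.exists_finite_model j hE
  have hz : ∀ i : ℤ, i ≠ 0 → IsZero (DCoh.HD ((rd j).obj (DCoh.inD Y M)) i) := fun i hi => by
    refine ((Scheme.Modules.restrictFunctor j).map_isZero ?_).of_iso (KFlat.Stalk.homologyRdIso j _ i)
    rcases lt_or_gt_of_ne hi with h | h
    · exact DerivedCategory.isZero_of_isGE (DCoh.inD Y M) 0 i h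
    · exact DerivedCategory.isZero_of_isLE (DCoh.inD Y M) 0 i h
  haveI : L.IsGE 0 := (KFlat.Stalk.isGE_tilde_iff L 0).1 ((DerivedCategory.isGE_iff _ _).2 fun i hi =>
    (hz i (ne_of_lt hi)).of_iso ((DerivedCategory.homologyFunctor _ i).mapIso e).symm)
  haveI : L.IsLE 0 := (KFlat.Stalk.isLE_tilde_iff L 0).1 ((DerivedCategory.isLE_iff _ _).2 fun i hi =>
    (hz i (ne_of_gt hi)).of_iso ((DerivedCategory.homologyFunctor _ i).mapIso e).symm)
  obtain ⟨N, ⟨eN⟩⟩ := L.exists_iso_singleFunctor_obj_of_isGE_of_isLE 0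
  refine ⟨N, ?_, ⟨e ≪≫ (DCoh.tildeD _).mapIso eN⟩⟩
  haveI := hL 0
  exact Module.Finite.equiv ((DerivedCategory.homologyFunctor _ 0).mapIso eN ≪≫
    (DerivedCategory.singleFunctorCompHomologyFunctorIso (ModuleCat.{u} B) 0).app N).toLinearEquiv

/-- The stalks of a module on a chart. -/
theorem exists_semilinear_stalk {B : Type u} [CommRing B] (j : Spec (CommRingCat.of B) ⟶ Y) [IsOpenImmersion j]
    (M : Y.Modules) (N : ModuleCat.{u} B)
    (e : (rd j).obj (DCoh.inD Y M) ≅
      (DCoh.tildeD (CommRingCat.of B)).obj ((DerivedCategory.singleFunctor (ModuleCat.{u} B) 0).obj N))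
    (q : PrimeSpectrum B) :
    (Subsingleton (M.presheaf.stalk (j.base q)) ↔ Subsingleton (LocalizedModule q.asIdeal.primeCompl N)) ∧
    LocCoh.depth (Y.presheaf.stalk (j.base q)) (M.presheaf.stalk (j.base q)) =
      LocCoh.depth (Localization.AtPrime q.asIdeal) (LocalizedModule q.asIdeal.primeCompl N) := by
  obtain ⟨φ, hφ, S, hS⟩ := H4RSH.ProperLocal.exists_semilinear_HD_stalk j _ _ e q 0
  let eM : (DerSch.stalkFunctor Y (j.base q)).obj (DCoh.HD (DCoh.inD Y M) 0) ≅
      (DerSch.stalkFunctor Y (j.base q)).obj M :=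
    (DerSch.stalkFunctor Y (j.base q)).mapIso (KFlat.Stalk.hdSingle M 0)
  let eN := (DerivedCategory.singleFunctorCompHomologyFunctorIso (ModuleCat.{u} B) 0).app N
  let f : LocalizedModule q.asIdeal.primeCompl (Dual.HD B ((DerivedCategory.singleFunctor (ModuleCat.{u} B) 0).obj N) 0)
      ≃ₗ[Localization.AtPrime q.asIdeal] LocalizedModule q.asIdeal.primeCompl N :=
    IsLocalizedModule.mapEquiv q.asIdeal.primeCompl
      (LocalizedModule.mkLinearMap q.asIdeal.primeCompl _) (LocalizedModule.mkLinearMap q.asIdeal.primeCompl _)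
      (Localization.AtPrime q.asIdeal) eN.toLinearEquiv
  obtain ⟨h1, -, -, h4, -⟩ := H06EGA12.invariants_of_semilinear φ hφ S hS
  constructor
  · exact (eM.toLinearEquiv.toEquiv.subsingleton_congr).symm.trans (h4.trans f.toEquiv.subsingleton_congr)
  · exact (H4Depth.depth_congr eM.toLinearEquiv).symm.trans (h1.trans (H4Depth.depth_congr f))

/-- No maps `M|_V ⟶ W|_V[i]` below the depth of `W` along the support of `M`. -/
theorem subsingleton_hom_affine [IsLocallyNoetherian Y] (M W : Y.Modules) (hM : Coh.IsCoh M) (hW : Coh.IsCoh W)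
    (c : ℕ) (hdep : ∀ y ∈ CohB1.support M, (c : ℕ∞) ≤ LocCoh.depth (Y.presheaf.stalk y) (W.presheaf.stalk y))
    {V : Y.Opens} (hV : IsAffineOpen V) (i : ℤ) (hi : i < c) :
    Subsingleton ((rA V).obj (DCoh.inD Y M) ⟶ (rA V).obj ((DCoh.inD Y W)⟦i⟧)) := by
  let B : Type u := Γ(Y, V)
  let j : Spec (CommRingCat.of B) ⟶ Y := hV.fromSpec
  haveI : IsOpenImmersion j := hV.isOpenImmersion_fromSpec
  haveI : IsNoetherianRing B := IsLocallyNoetherian.component_noetherian ⟨V, hV⟩
  obtain ⟨N, hN, ⟨eM⟩⟩ := exists_module_model j M hM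
  obtain ⟨N', hN', ⟨eW⟩⟩ := exists_module_model j W hW
  let S := DerivedCategory.singleFunctor (ModuleCat.{u} B) 0
  have s0 : Subsingleton (S.obj N ⟶ (S.obj N')⟦i⟧) := by
    rcases lt_or_ge i 0 with h | h
    · haveI : DerivedCategory.TStructure.t.IsGE ((S.obj N')⟦i⟧) (-i) :=
        DerivedCategory.TStructure.t.isGE_shift _ 0 i (-i) (by omega)
      exact ⟨fun f g => (DerivedCategory.TStructure.t.zero f 0 (-i) (by omega)).trans
        (DerivedCategory.TStructure.t.zero g 0 (-i) (by omega)).symm⟩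
    obtain ⟨m, rfl⟩ := Int.eq_ofNat_of_zero_le h
    have hle : (c : ℕ∞) ≤ LocCoh.idealDepth (Module.annihilator B N) N' := by
      rw [H4Depth.idealDepth_eq_iInf_depth_localization]
      refine le_iInf₂ fun q hq => ?_
      have hmem : j.base q ∈ CohB1.support M := by
        intro hs
        have hne : q ∈ Module.support B N := by
          rw [Module.support_eq_zeroLocus]
          exact hq
        exact not_subsingleton_iff_nontrivial.2 (Module.mem_support_iff.1 hne)
          ((exists_semilinear_stalk j M N eM q).1.1 hs)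
      exact (hdep _ hmem).trans (exists_semilinear_stalk j W N' eW q).2.le
    have hext : Subsingleton (Abelian.Ext N N' m) :=
      H4Depth.subsingleton_ext_of_lt_idealDepth N
        (by rw [Module.support_eq_zeroLocus]) m
        (lt_of_lt_of_le (by exact_mod_cast hi) hle)
    exact Abelian.Ext.homEquiv.symm.injective.subsingleton
  haveI := (QCohD.full_faithful (CommRingCat.of B)).1
  let td := DCoh.tildeD (CommRingCat.of B)
  have s2 : Subsingleton (td.obj (S.obj N) ⟶ td.obj ((S.obj N')⟦i⟧)) :=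
    @Function.Surjective.subsingleton _ _ _ s0 td.map_surjective
  let eW' : (rd j).obj ((DCoh.inD Y W)⟦i⟧) ≅ td.obj ((S.obj N')⟦i⟧) :=
    ((rd j).commShiftIso i).app _ ≪≫ (shiftFunctor _ i).mapIso eW ≪≫ ((td.commShiftIso i).app _).symm
  have s3 : Subsingleton ((rd j).obj (DCoh.inD Y M) ⟶ (rd j).obj ((DCoh.inD Y W)⟦i⟧)) :=
    @Function.Injective.subsingleton _ _ _ (eM.homCongr eW').injective s2
  haveI : IsIso hV.isoSpec.inv := inferInstance
  obtain ⟨κ⟩ := LeadBrown.nonempty_rdCompIso hV.isoSpec.inv V.ι j (show hV.isoSpec.inv ≫ V.ι = hV.fromSpec from hV.isoSpec_inv_ι)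
  haveI := LeadBrown.faithful_rd_of_isIso hV.isoSpec.inv
  have s4 : Subsingleton ((rA V ⋙ rd hV.isoSpec.inv).obj (DCoh.inD Y M) ⟶
      (rA V ⋙ rd hV.isoSpec.inv).obj ((DCoh.inD Y W)⟦i⟧)) :=
    @Function.Injective.subsingleton _ _ _
      ((κ.app (DCoh.inD Y M)).homCongr (κ.app ((DCoh.inD Y W)⟦i⟧))).symm.injective s3
  exact @Function.Injective.subsingleton _ _ _ (rd hV.isoSpec.inv).map_injective s4

/-- `RHom(M, W)` sits in degrees at least the depth of `W` along the support of `M`. -/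
theorem isGE_R_inD [IsLocallyNoetherian Y] (M W : Y.Modules) (hM : Coh.IsCoh M) (hW : Coh.IsCoh W) (c : ℕ)
    (hdep : ∀ y ∈ CohB1.support M, (c : ℕ∞) ≤ LocCoh.depth (Y.presheaf.stalk y) (W.presheaf.stalk y)) :
    ((R (DCoh.inD Y M)).obj (DCoh.inD Y W)).IsGE (c : ℤ) := by
  refine (DerivedCategory.isGE_iff _ _).2 fun i hi => ?_
  refine H4RSH.isZero_hd_R _ _ i {V | IsAffineOpen V} (fun W' x hx => ?_)
    fun V hV => subsingleton_hom_affine M W hM hW c hdep hV i hi
  obtain ⟨_, ⟨V, hV, rfl⟩, hxV, hVW⟩ := Y.isBasis_affineOpens.exists_subset_of_mem_open hx W'.2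
  exact ⟨V, hV, hxV, hVW⟩

end Groth.Agent.H16Derived.FMKDual
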