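import Groth.Agent.H16Derived.FMKDual.Codim
import Groth.Agent.H16Derived.FMKWit.Eventual
import Groth.Agent.H16Derived.FMKSymm.Main
import Groth.Agent.H16Derived.ProperSupp.Tensor
import Groth.Agent.H02CA.StrongGen.Main
import Groth.Agent.H25FM.Calc
import Groth.Agent.H4RSH.HomToInjective
import Groth.Agent.H4RSH.SerreDual
import Groth.Agent.H10Coh.Growth.Field
import Groth.Agent.H10Coh.TensorBasics
import Groth.Agent.LeadBrown.Adjoint

/-!
# GV objects from vanishing after negative twists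
-/

set_option autoImplicit false
set_option linter.style.haveILetI false
set_option backward.isDefEq.respectTransparency false

universe u

open CategoryTheory CategoryTheory.Limits AlgebraicGeometry

attribute [local instance] HasDerivedCategory.standard

namespace Groth.Agent.H16Derived.FMKDual

open Groth.Agent.H16Derived.KFlat Groth.Agent.H16Derived.KFlat.Stalk
open Groth.Agent.H16Derived.Dual (T R ro one σ α)
open Groth.Agent.H16Derived.GenAmple (tw)

variable {X : Scheme.{u}}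

/-- `(O⟦n⟧) ⊗ K ≅ K⟦n⟧`. -/
noncomputable def oneShiftTensor (K : DCoh.D X) (n : ℤ) :
    ((T X).obj ((DCoh.inD X (Coh.structureModule X))⟦n⟧)).obj K ≅ K⟦n⟧ :=
  tensorShiftLeft _ _ n ≪≫ (shiftFunctor _ n).mapIso
    (((T X).mapIso Dual.oneIso).app K ≪≫ σ _ _ ≪≫ (Dual.rightUnit X).app K)

/-- Hypercohomology of `RHom(K, L)` is given by maps. -/
theorem subsingleton_hom_of_R (K L : DCoh.D X) (j : ℤ)
    (h : Subsingleton (DCoh.inD X (Coh.structureModule X) ⟶ ((R K).obj L)⟦j⟧)) :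
    Subsingleton (K⟦-j⟧ ⟶ L) := by
  have h1 : Subsingleton ((DCoh.inD X (Coh.structureModule X))⟦-j⟧ ⟶ (R K).obj L) :=
    @Equiv.subsingleton _ _
      ((shiftEquiv' (DCoh.D X) (-j) j (neg_add_cancel j)).toAdjunction.homEquiv _ _) h
  have h2 : Subsingleton (((T X).obj ((DCoh.inD X (Coh.structureModule X))⟦-j⟧)).obj K ⟶ L) :=
    @Equiv.subsingleton _ _ ((Dual.adjR K).homEquiv _ _) h1
  exact @Equiv.subsingleton _ _ (Iso.homCongr (oneShiftTensor K (-j)).symm (Iso.refl _)) h2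

/-- Over a field, an object with no maps to the structure module has `H^0 = 0`. -/
theorem isZero_hd_of_hom_field {k : Type u} [Field k] (V : DCoh.D (Spec (CommRingCat.of k)))
    (hV : DCoh.IsQCohD V)
    (h : Subsingleton (V ⟶ DCoh.inD (Spec (CommRingCat.of k)) (Coh.structureModule (Spec (CommRingCat.of k))))) :
    IsZero (DCoh.HD V 0) := by
  haveI := QCohD.preservesFiniteLimits_tilde_of (CommRingCat.of k)
  haveI := (QCohD.full_faithful (CommRingCat.of k)).2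
  obtain ⟨R₀, ⟨ε⟩⟩ := QCohD.exists_tildeD_iso (R := CommRingCat.of k) hV
  let S := Spec (CommRingCat.of k)
  let eO : (DCoh.tildeD (CommRingCat.of k)).obj
      ((DerivedCategory.singleFunctor (ModuleCat.{u} k) 0).obj (ModuleCat.of k k)) ≅
      DCoh.inD S (Coh.structureModule S) :=
    ((tilde.functor (CommRingCat.of k)).mapDerivedCategorySingleFunctor 0).app (ModuleCat.of k k) ≪≫
      (DerivedCategory.singleFunctor S.Modules 0).mapIso (AlgebraicGeometry.tildeSelf (R := CommRingCat.of k))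
  let I := (DerivedCategory.singleFunctor (ModuleCat.{u} k) 0).obj (ModuleCat.of k k)
  have h1 : Subsingleton ((DCoh.tildeD (CommRingCat.of k)).obj R₀ ⟶ (DCoh.tildeD (CommRingCat.of k)).obj I) :=
    @Equiv.subsingleton _ _ (Iso.homCongr ε eO) h
  have h2 : Subsingleton (R₀ ⟶ I) :=
    @Function.Injective.subsingleton _ _ _ (DCoh.tildeD (CommRingCat.of k)).map_injective h1
  haveI := H4RSH.SerreDual.injective_self k
  have h3 : Subsingleton (hA (A := k) R₀ 0 ⟶ hA (A := k) I 0) :=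
    ⟨fun x y => by
      obtain ⟨u, rfl⟩ := (H4RSH.bijective_map_homology_injective (ModuleCat.of k k) R₀).2 x
      obtain ⟨v, rfl⟩ := (H4RSH.bijective_map_homology_injective (ModuleCat.of k k) R₀).2 y
      exact congrArg _ (h2.elim u v)⟩
  have h4 : IsZero (hA (A := k) R₀ 0) := by
    refine @ModuleCat.isZero_of_subsingleton _ _ _ ⟨fun v w => ?_⟩
    by_contra hne
    obtain ⟨φ, hφ⟩ := Module.Projective.exists_dual_ne_zero k (sub_ne_zero.2 hne)
    let s := (DerivedCategory.singleFunctorCompHomologyFunctorIso (ModuleCat.{u} k) 0).app (ModuleCat.of k k)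
    have h5 : (ModuleCat.ofHom φ : hA (A := k) R₀ 0 ⟶ ModuleCat.of k k) = 0 :=
      (cancel_mono s.inv).1 (h3.elim _ _)
    exact hφ (congr($(h5).hom (v - w)))
  exact ((tf k).map_isZero h4).of_iso
    ((DerivedCategory.homologyFunctor _ 0).mapIso ε.symm ≪≫ hdTilde R₀ 0)

variable {k : Type u} [Field k] {Y : Scheme.{u}} (a : X ⟶ Spec (CommRingCat.of k)) (b : Y ⟶ Spec (CommRingCat.of k))
  [IsProper a] [IsProper b]

/-- The hypercohomology in the symmetry of transforms, second input quasi-coherent. -/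
theorem nonempty_symm [DCoh.HasLpull (pullback.fst a b)] [DCoh.HasLpull (pullback.snd a b)]
    [DCoh.HasRpush (pullback.fst a b)] [DCoh.HasRpush (pullback.snd a b)] [DCoh.HasRΓ X] [DCoh.HasRΓ Y]
    (P : CochainComplex (pullback a b).Modules ℤ) (hP : DCoh.IsPerfect (DCoh.toD (pullback a b) P))
    [DCoh.HasLTensorCx P] (F : CochainComplex X.Modules ℤ) (hF : DCoh.IsPerfect (DCoh.toD X F))
    [DCoh.HasLTensorCx F] (Q : DCoh.D Y) (hQ : DCoh.IsQCohD Q) :
    Nonempty ((DCoh.RΓ X).obj ((DCoh.LTensorCx F).obj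
        ((DCoh.Lpull (pullback.snd a b) ⋙ DCoh.LTensorCx P ⋙ DCoh.Rpush (pullback.fst a b)).obj Q)) ≅
      (DCoh.RΓ Y).obj (((T Y).obj ((FMK.phi a b P).obj (DCoh.toD X F))).obj Q)) := by
  let p := pullback.fst a b
  let q := pullback.snd a b
  haveI : DCoh.HasRΓ ↑(pullback a b) := GammaAcyclic.hasRΓ _
  obtain ⟨i⟩ := FMKSymm.nonempty_gamma_proj p F hF ((DCoh.LTensorCx P).obj ((DCoh.Lpull q).obj Q))
  let M := ((T _).obj ((DCoh.Lpull p).obj (DCoh.toD X F))).obj (DCoh.toD (pullback a b) P)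
  have hM : DCoh.IsPerfect M := H02CA.StrongGen.isPerfect_T (isPerfect_lpull p hF) hP
  obtain ⟨j⟩ := H02CA.StrongGen.nonempty_projection q (Dual.isQCohD_of_isPerfect hM) hQ
  obtain ⟨r⟩ := GammaAcyclic.nonempty_rpush_RΓ_iso q
  exact ⟨i ≪≫ (DCoh.RΓ _).mapIso (((T _).mapIso ((Dual.ltensorCxIsoT P).symm.app _)).app _ ≪≫
      FMKSymm.swap₃ _ _ _) ≪≫ (r.app _).symm ≪≫ (DCoh.RΓ Y).mapIso (j ≪≫
      ((T Y).mapIso ((DCoh.Rpush q).mapIso ((Dual.ltensorCxIsoT P).app _))).app Q)⟩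

/-- GV objects from vanishing after negative twists. -/
theorem gv_of_ample (g : ℕ) (hYcm : ∀ y : ↥Y, LocCoh.IsCohenMacaulayLocalRing ↑(Y.presheaf.stalk y))
    (hYeq : ∀ Z ∈ irreducibleComponents ↥Y, topologicalKrullDim ↥Z = (g : WithBot ℕ∞))
    [DCoh.HasRpush b] (hb : DCoh.RpushPreservesQCoh b)
    (bdx : DCoh.DQCoh (Spec (CommRingCat.of k)) ⥤ DCoh.DQCoh Y) (adj : DCoh.RpushQ b hb ⊣ bdx)
    (O : DCoh.DQCoh (Spec (CommRingCat.of k)))
    (hO : Nonempty (O.obj ≅ DCoh.inD (Spec (CommRingCat.of k)) (Coh.structureModule (Spec (CommRingCat.of k)))))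
    [DCoh.HasRΓ Y] {L L' : Y.Modules} (hL : CohB1.IsAmple L)
    (eL : CohB1.tensorMod L L' ≅ Coh.structureModule Y)
    (k' : ℕ) (C : DCoh.D Y) (hC : DCoh.IsPerfect C)
    (hvan : ∃ n₀ : ℕ, ∀ n : ℕ, n₀ ≤ n → ∀ j : ℤ, j < (g : ℤ) ∨ (g : ℤ) + k' < j →
      IsZero ((DerivedCategory.homologyFunctor AddCommGrpCat.{u} j).obj ((DCoh.RΓ Y).obj
        (((T Y).obj C).obj (DCoh.inD Y
          (CohB1.tensorMod (CohB1.tensorPow L' n) (DCoh.HD (bdx.obj O).obj (-(g : ℤ))))))))) :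
    (∀ i : ℤ, i < 0 → IsZero (DCoh.HD C i)) ∧
    (∀ (i : ℕ) (y : ↥Y), y ∈ CohB1.support (DCoh.HD C (i : ℤ)) →
      ((i - k' : ℕ) : WithBot ℕ∞) ≤ ringKrullDim ↑(Y.presheaf.stalk y)) := by
  haveI : IsLocallyNoetherian Y := LocallyOfFiniteType.isLocallyNoetherian b
  haveI : CompactSpace Y := QuasiCompact.compactSpace_of_compactSpace b
  haveI : Flat b := inferInstance
  haveI : LocallyOfFinitePresentation b := inferInstance
  let S := Spec (CommRingCat.of k)
  haveI : DCoh.HasRΓ S := GammaAcyclic.hasRΓ S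
  haveI : Subsingleton S := inferInstance
  obtain ⟨hω, hWc, -⟩ := S3637.result k Y b hYcm g hYeq hb bdx adj O hO
  let W := DCoh.HD (bdx.obj O).obj (-(g : ℤ))
  obtain ⟨eW⟩ := nonempty_iso_shift (bdx.obj O).obj g hω
  let K := ro C
  have hK : DCoh.IsPerfect K := Dual.isPerfect_ro hC
  haveI := Dual.isIso_w hC
  let eC : C ≅ ro K := asIso (Dual.w C)
  have hL' : PicF.IsInvertible L' :=
    H10Coh.Growth.isInvertible_of_tensor hL.1
      (H11Tilde.isInvertible_of_iso (H10Coh.Tw.commIso L' L ≪≫ eL).symm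
        (H11Ample.isInvertible_structureModule (X := Y)))
  obtain ⟨lo, hi, hlo, hhi⟩ := FMKWit.exists_bounds_of_isPerfect hK
  obtain ⟨n₁, hn₁⟩ := FMKWit.eventual b hL (hi - lo + 1).toNat lo hi (by omega) K hlo hhi
    (FMKWit.isCohD_of_isPerfect hK)
  obtain ⟨n₀, hn₀⟩ := hvan
  let n := max n₀ n₁
  have hz : ∀ i : ℤ, i < -(k' : ℤ) ∨ 0 < i → IsZero (DCoh.HD K i) := by
    intro i hi'
    let j : ℤ := g - i
    let Lp := CohB1.tensorPow L n
    let Lm := CohB1.tensorPow L' n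
    have hLp : PicF.IsInvertible Lp := H11Ample.isInvertible_tensorPow hL.1 n
    have hLm : PicF.IsInvertible Lm := H11Ample.isInvertible_tensorPow hL' n
    haveI := hasLTensorMod Lp
    haveI := hasLTensorMod Lm
    obtain ⟨c⟩ := H11Ample.nonempty_tensorPow_inverse eL hL.1 hL' n
    obtain ⟨ad⟩ := H25FM.exists_twist_equiv hLm hLp c
    obtain ⟨eWn⟩ := H02CA.StrongGen.nonempty_inD_tensor W Lm (H25FM.isFlat_invertible hLm)
    obtain ⟨eWm⟩ := ProperSupp.nonempty_ltensorMod_iso (DCoh.inD Y W) Lm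
    let eWn' : DCoh.inD Y (CohB1.tensorMod Lm W) ≅ (DCoh.LTensorMod Lm).obj (DCoh.inD Y W) :=
      (DerivedCategory.singleFunctor Y.Modules 0).mapIso (H10Coh.Tw.commIso Lm W) ≪≫ eWn ≪≫ eWm.symm
    have s0 : Subsingleton (DCoh.inD Y (Coh.structureModule Y) ⟶
        (((T Y).obj C).obj (DCoh.inD Y (CohB1.tensorMod Lm W)))⟦j⟧) :=
      (FMKWit.isZero_rΓ_iff _ j).1 (hn₀ n (le_max_left _ _) j (by omega))
    have s1 : Subsingleton (K⟦-j⟧ ⟶ DCoh.inD Y (CohB1.tensorMod Lm W)) :=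
      subsingleton_hom_of_R K _ j (FMKWit.ss_of_iso _ ((shiftFunctor _ j).mapIso (σ _ _ ≪≫
        ((T Y).obj _).mapIso eC ≪≫ Dual.θIso hK _)) s0)
    have s2 : Subsingleton ((DCoh.LTensorMod Lp).obj (K⟦-j⟧) ⟶ DCoh.inD Y W) :=
      @Equiv.subsingleton _ _ (ad.homEquiv _ _) (FMKWit.ss_of_iso _ eWn' s1)
    let U := ((T Y).obj K).obj (DCoh.inD Y Lp)
    have hU : DCoh.IsPerfect U := H02CA.StrongGen.isPerfect_T hK
      (isPerfect_inD (H28Pinch.isFinLocFree_of_isInvertible hLp))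
    obtain ⟨eU⟩ := ProperSupp.nonempty_ltensorMod_iso (K⟦-j⟧) Lp
    let eU' : (DCoh.LTensorMod Lp).obj (K⟦-j⟧) ≅ U⟦-j⟧ := eU ≪≫ tensorShiftLeft K _ (-j)
    have s3 : Subsingleton ((U⟦-j⟧)⟦(g : ℤ)⟧ ⟶ (DCoh.inD Y W)⟦(g : ℤ)⟧) :=
      @Function.Surjective.subsingleton _ _ _
        (@Equiv.subsingleton _ _ (Iso.homCongr eU'.symm (Iso.refl _)) s2)
        (shiftFunctor (DCoh.D Y) (g : ℤ)).map_surjective
    have s4 : Subsingleton (U⟦i⟧ ⟶ (bdx.obj O).obj) :=
      @Equiv.subsingleton _ _ (Iso.homCongr ((shiftFunctorAdd' (DCoh.D Y) (-j) (g : ℤ) i (by omega)).app U) eW) s3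
    have hUi : DCoh.IsPerfect (U⟦i⟧) := isPerfect_shift hU i
    have s5 : Subsingleton ((DCoh.Rpush b).obj (U⟦i⟧) ⟶
        DCoh.inD S (Coh.structureModule S)) :=
      @Equiv.subsingleton _ _ (Iso.homCongr (Iso.refl _) hO.some.symm)
        (@Equiv.subsingleton _ _ (LeadBrown.homEquivD adj _ (Dual.isQCohD_of_isPerfect hUi) O).symm s4)
    have hz0 := isZero_hd_of_hom_field ((DCoh.Rpush b).obj (U⟦i⟧))
      (hb _ (Dual.isQCohD_of_isPerfect hUi)) s5
    obtain ⟨r⟩ := GammaAcyclic.nonempty_rpush_RΓ_iso b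
    have s6 := (FMKWit.isZero_rΓ_iff (U⟦i⟧) 0).1 ((FMKWit.isZero_RΓ_of_HD _ 0 hz0).of_iso
      ((DerivedCategory.homologyFunctor _ 0).mapIso (r.app _).symm))
    haveI := (GenAmple.exact_tw (L := Lp) hLp).1
    haveI := (GenAmple.exact_tw (L := Lp) hLp).2
    obtain ⟨eT⟩ := GenAmple.nonempty_ltensorMod_tw Lp K
    obtain ⟨eT'⟩ := ProperSupp.nonempty_ltensorMod_iso K Lp
    refine (hn₁ n (le_max_right _ _) i).1 (FMKWit.ss_of_iso _ ((shiftFunctorZero (DCoh.D Y) ℤ).app _ ≪≫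
      (shiftFunctor _ i).mapIso (eT'.symm ≪≫ eT)) s6)
  exact gv_of_dual K C hK 0 k' (eC.symm ≪≫ ((shiftFunctorZero' (DCoh.D Y) ((0 : ℕ) : ℤ) rfl).app C).symm)
    fun i hi' => hz i (by push_cast at hi'; omega)

end Groth.Agent.H16Derived.FMKDual
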