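import Groth.Agent.H16Derived.FMKDual.Codim
import Groth.Agent.H16Derived.ProperSupp.Tensor
import Groth.Agent.H16Derived.FMKWit.GVVanish
import Groth.Agent.H16Derived.TorTest.LpullGE
import Groth.Agent.H16Derived.Thomason.PushTest
import Groth.Agent.H25FM.ProjT
import Groth.Agent.H25FM.Single
import Groth.Agent.H25FM.Calc
import Groth.Agent.H10Coh.SheafHom.Flat
import Groth.Agent.H8Props.RelPCBaseChange
import Groth.Agent.H10Coh.SheafHom.Adj
import Groth.Prelude.Def_DCoh4
import Mathlib.Algebra.Homology.DerivedCategory.FullyFaithful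

/-!
# Transforms with a locally free kernel
-/

set_option autoImplicit false
set_option linter.style.haveILetI false
set_option backward.isDefEq.respectTransparency false

universe u v v' w w'

open CategoryTheory CategoryTheory.Limits AlgebraicGeometry CategoryTheory.Pretriangulated

attribute [local instance] HasDerivedCategory.standard

namespace Groth.Agent.H16Derived.FMKDual

open DerivedCategory.TStructure (t)
open Groth.Agent.H16Derived.KFlat Groth.Agent.H16Derived.KFlat.Stalk
open Groth.Agent.H16Derived.Dual (T R ro one σ)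

section yoneda

variable {A : Type w} [Category.{v} A] {D : Type w'} [Category.{v'} D] {S : A ⥤ D} [S.Full] [S.Faithful]
  {T' R' : D ⥤ D} (adj : T' ⊣ R') {G Hom' : A ⥤ A} (adjG : G ⊣ Hom') (η : S ⋙ T' ≅ G ⋙ S) {O : A} {o : D}
  (ε : S.obj O ≅ o)

/-- A value of a right adjoint that lies in a full subcategory is computed there. -/
noncomputable def rightAdjointValueIso {M : A} (e : S.obj M ≅ R'.obj o) : M ≅ Hom'.obj O :=
  let φ : ∀ N : A, (N ⟶ M) ≃ (N ⟶ Hom'.obj O) := fun N =>
    ((Functor.FullyFaithful.ofFullyFaithful S).homEquiv.trans (Iso.homCongr (Iso.refl (S.obj N)) e)).trans <|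
    ((adj.homEquiv (S.obj N) o).symm.trans (Iso.homCongr (η.app N) ε.symm)).trans <|
    (Functor.FullyFaithful.ofFullyFaithful S).homEquiv.symm.trans (adjG.homEquiv N O)
  Yoneda.ext M (Hom'.obj O) (fun {N} => φ N) (fun {N} => (φ N).symm)
    (fun {N} f => (φ N).symm_apply_apply f) (fun {N} f => (φ N).apply_symm_apply f) fun {N N'} g f => by
      have h1 : (adj.homEquiv (S.obj N') o).symm (S.map g ≫ S.map f ≫ e.hom) =
          T'.map (S.map g) ≫ (adj.homEquiv (S.obj N) o).symm (S.map f ≫ e.hom) :=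
        adj.homEquiv_naturality_left_symm _ _
      have h2 : η.inv.app N' ≫ T'.map (S.map g) = S.map (G.map g) ≫ η.inv.app N := (η.inv.naturality g).symm
      simp only [φ, Equiv.trans_apply, Iso.homCongr_apply, Functor.FullyFaithful.homEquiv_apply, Iso.refl_inv,
        Category.id_comp, Functor.map_comp, Category.assoc]
      rw [h1, ← adjG.homEquiv_naturality_left]
      refine congrArg _ (S.map_injective ?_)
      simp only [Functor.map_comp, Functor.FullyFaithful.homEquiv_symm_apply,
        Functor.FullyFaithful.map_preimage, Iso.app_inv, Iso.symm_hom, Category.assoc]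
      simp only [Functor.FullyFaithful.homEquiv, Equiv.coe_fn_symm_mk, Functor.FullyFaithful.map_preimage]
      rw [← Category.assoc, h2, Category.assoc]

end yoneda

variable {X : Scheme.{u}}

/-- `inD N ⊗ -` for a locally free `N` keeps lower bounds. -/
theorem isGE_T_inD {N : X.Modules} (hN : FlatMod.IsFinLocFree N) (A : DCoh.D X) (a : ℤ) [A.IsGE a] :
    (((T X).obj A).obj (DCoh.inD X N)).IsGE a := by
  haveI := hasLTensorMod N
  obtain ⟨e⟩ := ProperSupp.nonempty_ltensorMod_iso A N
  let K := DerivedCategory.Q.objPreimage A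
  let eK : DerivedCategory.Q.obj K ≅ A := DerivedCategory.Q.objObjPreimageIso A
  haveI : (DerivedCategory.Q.obj K).IsGE a := ⟨(t.ge a).prop_of_iso eK.symm (t.ge_of_isGE A a)⟩
  haveI hK : K.IsGE a := (DerivedCategory.isGE_Q_obj_iff K a).1 inferInstance
  obtain ⟨h1, h2⟩ := FMKWit.exact_tw_locFree hN
  haveI : PreservesFiniteLimits (DCoh.tensorRightMod N) :=
    preservesFiniteLimits_of_natIso (tensorRightModIso N).symm
  haveI : PreservesFiniteColimits (DCoh.tensorRightMod N) :=
    preservesFiniteColimits_of_natIso (tensorRightModIso N).symm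
  haveI : CochainComplex.IsGE (((DCoh.tensorRightMod N).mapHomologicalComplex (ComplexShape.up ℤ)).obj K) a :=
    (CochainComplex.isGE_iff _ _).2 fun i hi => by
      rw [HomologicalComplex.exactAt_iff_isZero_homology]
      exact ((DCoh.tensorRightMod N).map_isZero (K.exactAt_of_isGE a i hi).isZero_homology).of_iso
        ((K.sc i).mapHomologyIso (DCoh.tensorRightMod N))
  have h : (DerivedCategory.Q.obj (((DCoh.tensorRightMod N).mapHomologicalComplex
      (ComplexShape.up ℤ)).obj K)).IsGE a := (DerivedCategory.isGE_Q_obj_iff _ a).2 inferInstance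
  exact ⟨(t.ge a).prop_of_iso (((H25FM.ltFlatIso (isFlat_of_isFinLocFree hN)).app K).symm ≪≫
    (DCoh.LTensorMod N).mapIso eK ≪≫ e) h.ge⟩

/-- The tensor product keeps upper bounds. -/
theorem isLE_T (A B : DCoh.D X) (a b : ℤ) [A.IsLE a] [B.IsLE b] : (((T X).obj A).obj B).IsLE (a + b) := by
  obtain ⟨K, hK, ⟨e⟩⟩ := exists_kflat_rep B
  haveI := hasLTensorCx K
  haveI : (DCoh.toD X K).IsLE b := ⟨(t.le b).prop_of_iso e.symm (t.le_of_isLE B b)⟩
  exact ⟨(t.le (a + b)).prop_of_iso ((Dual.ltensorCxIsoT K).symm.app A ≪≫ ((T X).obj A).mapIso e)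
    (Thomason.isLE_ltensorCx K b a).le⟩

/-- The dual of a locally free module is the sheaf Hom into the structure module. -/
theorem nonempty_ro_inD {P₀ : X.Modules} (hP₀ : FlatMod.IsFinLocFree P₀) [DCoh.HasSheafHom P₀]
    (hge : (ro (DCoh.inD X P₀)).IsGE 0) (hle : (ro (DCoh.inD X P₀)).IsLE 0) :
    Nonempty (DCoh.inD X ((DCoh.sheafHom P₀).obj (Coh.structureModule X)) ≅ ro (DCoh.inD X P₀)) := by
  haveI := hge
  haveI := hle
  haveI := hasLTensorMod P₀
  obtain ⟨M, ⟨e⟩⟩ := (ro (DCoh.inD X P₀)).exists_iso_singleFunctor_obj_of_isGE_of_isLE 0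
  obtain ⟨b⟩ := H25FM.nonempty_T_inD (isFlat_of_isFinLocFree hP₀)
  let S := DerivedCategory.singleFunctor X.Modules 0
  let F := DCoh.tensorRightMod P₀
  let η : S ⋙ (T X).obj (DCoh.inD X P₀) ≅ (DCoh.tensorBi (X := X)).obj P₀ ⋙ S :=
    Functor.isoWhiskerLeft S b ≪≫
    Functor.isoWhiskerRight (DerivedCategory.singleFunctorIsoCompQ X.Modules 0) _ ≪≫
    Functor.associator _ _ _ ≪≫
    Functor.isoWhiskerLeft (CochainComplex.singleFunctor X.Modules 0)
      (H25FM.ltFlatIso (isFlat_of_isFinLocFree hP₀)) ≪≫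
    (Functor.associator _ _ _).symm ≪≫
    Functor.isoWhiskerRight (HomologicalComplex.singleMapHomologicalComplex F (ComplexShape.up ℤ) 0) _ ≪≫
    Functor.associator _ _ _ ≪≫
    Functor.isoWhiskerLeft F (DerivedCategory.singleFunctorIsoCompQ X.Modules 0).symm ≪≫
    Functor.isoWhiskerRight (tensorRightModIso P₀ ≪≫ ((Dual.braidM (X := X)).app P₀).symm) S
  exact ⟨(S.mapIso (rightAdjointValueIso (LeadBrown.adjS (DCoh.inD X P₀)) (DCoh.sheafHomAdj P₀) η
    (Dual.oneIso (X := X)) e.symm)).symm ≪≫ e.symm⟩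

theorem isFinLocFree_sheafHom {P₀ : X.Modules} (hP₀ : FlatMod.IsFinLocFree P₀) [DCoh.HasSheafHom P₀] :
    FlatMod.IsFinLocFree ((DCoh.sheafHom P₀).obj (Coh.structureModule X)) :=
  isFinLocFree_of_iso (H10Coh.SheafHom.homShIso P₀ (Coh.structureModule X)).symm
    (H10Coh.SheafHom.isFinLocFree_homSh hP₀
      (H8Props.RelPC.isFinLocFree_structure X))

/-- The dual of a perfect object whose fibres live in degrees `≥ 0` lives in degrees `≤ 0`. -/
theorem isLE_ro_of_fibres [IsLocallyNoetherian X] {C : DCoh.D X} (hC : DCoh.IsPerfect C)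
    (h : ∀ (y : X) [DCoh.HasLpull (X.fromSpecResidueField y)] (m : ℤ), m < 0 →
      IsZero (DCoh.HD ((DCoh.Lpull (X.fromSpecResidueField y)).obj C) m)) :
    (ro C).IsLE 0 := by
  refine (DerivedCategory.isLE_iff _ _).2 fun j hj => ?_
  refine KFlat.Stalk.isZero_of_stalk fun y => ?_
  haveI := hasLpull (X.fromSpecResidueField y)
  haveI := QCohD.hasRpush (X.fromSpecResidueField y)
  haveI : Subsingleton (Spec (X.residueField y)) := inferInstance
  have hn : y ∉ CohB1.support (DCoh.HD (ro C) j) := by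
    refine H02CA.FibreVanish.notMem_support_of_lpull _ (Dual.isPerfect_ro hC) y j ?_
    obtain ⟨e⟩ := nonempty_ro_lpull (X.fromSpecResidueField y) hC
    exact (isZero_ro_point (X.residueField y) (Field.toIsField _) _
      (isPerfect_lpull (X.fromSpecResidueField y) hC) 0 (fun m hm => h y m (by omega)) j hj).of_iso
      ((DerivedCategory.homologyFunctor _ j).mapIso e)
  haveI : Subsingleton ((DCoh.HD (ro C) j).presheaf.stalk y) := not_not.1 hn
  exact @ModuleCat.isZero_of_subsingleton _ _ ((DerSch.stalkFunctor X y).obj (DCoh.HD (ro C) j))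
    (inferInstanceAs (Subsingleton ((DCoh.HD (ro C) j).presheaf.stalk y)))

/-- A perfect object with fibres in degrees `≥ 0` lives in degrees `≥ 0`. -/
theorem isGE_of_isLE_ro {C : DCoh.D X} (hC : DCoh.IsPerfect C) [(ro C).IsLE 0] : C.IsGE 0 := by
  haveI := Dual.isIso_w hC
  haveI : DerivedCategory.IsGE (one X) 0 :=
    ⟨(t.ge 0).prop_of_iso Dual.oneIso (t.ge_of_isGE (DCoh.inD X (Coh.structureModule X)) 0)⟩
  have h := Dual.isGE_R (k := ro C) 0 (one X) 0
  simp only [sub_self] at h
  exact ⟨(t.ge 0).prop_of_iso (asIso (Dual.w C)).symm h.ge⟩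

end Groth.Agent.H16Derived.FMKDual
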