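import Groth.Agent.H02CA.AuslanderBuchsbaum
import Groth.Agent.H16Derived.FMKWit.CMExact
import Groth.Agent.H16Derived.FMKWit.Fibre
import Groth.Agent.H06Mod.StalkFinite
import Groth.Agent.H10Inj.GGOn
import Mathlib.RingTheory.Flat.Equalizer

/-!
# Derived fibres vanish well below the lowest cohomology
-/

set_option autoImplicit false
set_option linter.style.haveILetI false

universe u

open CategoryTheory CategoryTheory.Limits AlgebraicGeometry TensorProduct LocCoh

attribute [local instance] HasDerivedCategory.standard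

namespace Groth.Agent.H16Derived.FMKDual

open H16Derived.KFlat H16Derived.KFlat.Stalk H02CA.FibreVanish

section algebra

variable {R : Type u} [CommRing R] [IsLocalRing R] [IsNoetherianRing R]
  (C : ℕ → Type u) [∀ n, AddCommGroup (C n)] [∀ n, Module R (C n)] [∀ n, Module.Finite R (C n)]
  [∀ n, Module.Free R (C n)] (d : ∀ n, C n →ₗ[R] C (n + 1))

/-- The map from the cokernel of `d n` to the next term. -/
def cokerMap {n : ℕ} (h : Function.Exact (d n) (d (n + 1))) :
    (C (n + 1) ⧸ LinearMap.range (d n)) →ₗ[R] C (n + 1 + 1) :=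
  (LinearMap.range (d n)).liftQ (d (n + 1)) (LinearMap.exact_iff.1 h).ge

omit [IsLocalRing R] [IsNoetherianRing R] [∀ n, Module.Finite R (C n)] [∀ n, Module.Free R (C n)] in
theorem injective_cokerMap {n : ℕ} (h : Function.Exact (d n) (d (n + 1))) :
    Function.Injective (cokerMap C d h) := by
  rw [← LinearMap.ker_eq_bot, cokerMap, Submodule.ker_liftQ, LinearMap.exact_iff.1 h,
    eq_bot_iff, Submodule.map_le_iff_le_comap, Submodule.comap_bot, Submodule.ker_mkQ]

omit [IsLocalRing R] [IsNoetherianRing R] [∀ n, Module.Finite R (C n)] [∀ n, Module.Free R (C n)] in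
theorem exact_cokerMap {n : ℕ} (h : Function.Exact (d n) (d (n + 1))) :
    Function.Exact (cokerMap C d h) (LinearMap.range (d (n + 1))).mkQ :=
  LinearMap.exact_iff.2 ((Submodule.ker_mkQ _).trans (Submodule.range_liftQ _ _ _).symm)

/-- Cokernels in an exact complex of free modules are free away from the top `dim R` degrees. -/
theorem free_coker [Subsingleton (C 0)] (N p δ : ℕ) (hp : depth R R ≤ p)
    (hN : min (δ : ℕ∞) (depth R R) ≤ depth R (C (N + 1) ⧸ LinearMap.range (d N)))
    (hex : ∀ t < N, Function.Exact (d t) (d (t + 1))) :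
    ∀ t, t ≤ N → t + p ≤ N + δ → Module.Free R (C (t + 1) ⧸ LinearMap.range (d t)) := by
  have hdep : ∀ s t, t + s = N →
      min ((s + δ : ℕ) : ℕ∞) (depth R R) ≤ depth R (C (t + 1) ⧸ LinearMap.range (d t)) := by
    intro s
    induction s with
    | zero =>
      intro t ht
      obtain rfl : t = N := by omega
      simpa using hN
    | succ s ih =>
      intro t ht
      refine le_trans ?_ (H4Depth.min_le_idealDepth_left _ (injective_cokerMap C d (hex t (by omega)))
        (Submodule.mkQ_surjective _) (exact_cokerMap C d (hex t (by omega))))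
      refine le_min ((min_le_right _ _).trans (FMKWit.idealDepth_le_of_free _ _)) ?_
      refine le_trans ?_ (add_le_add (ih (t + 1) (by omega)) le_rfl)
      rw [← min_add_add_right, show s + 1 + δ = s + δ + 1 by omega, Nat.cast_succ (s + δ)]
      exact min_le_min le_rfl le_self_add
  intro t
  induction t with
  | zero =>
    intro _ _
    have h0 : LinearMap.range (d 0) = ⊥ := by
      rw [LinearMap.range_eq_bot]
      exact LinearMap.ext fun x => by rw [Subsingleton.elim x 0, map_zero, map_zero]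
    exact Module.Free.of_equiv (Submodule.quotEquivOfEqBot _ h0).symm
  | succ t ih =>
    intro htN ht
    haveI := ih (by omega) (by omega)
    by_contra hnf
    let Q := C (t + 1 + 1) ⧸ LinearMap.range (d (t + 1))
    haveI : Nontrivial Q := by
      by_contra hn
      rw [not_nontrivial_iff_subsingleton] at hn
      exact hnf inferInstance
    have hses := H4Depth.shortComplexOf_shortExact (cokerMap C d (hex t (by omega)))
      (LinearMap.range (d (t + 1))).mkQ (injective_cokerMap C d _) (Submodule.mkQ_surjective _)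
      (exact_cokerMap C d _)
    haveI : Projective (ModuleCat.of R (C (t + 1 + 1))) :=
      (IsProjective.iff_projective (R := R) (C (t + 1 + 1))).1 inferInstance
    haveI : Projective (ModuleCat.of R (C (t + 1) ⧸ LinearMap.range (d t))) :=
      (IsProjective.iff_projective (R := R) (C (t + 1) ⧸ LinearMap.range (d t))).1 inferInstance
    have h2 : HasProjectiveDimensionLT (ModuleCat.of R Q) 2 :=
      hses.hasProjectiveDimensionLT_X₃ 1 (projective_iff_hasProjectiveDimensionLT_one.1 ‹_›) (by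
        haveI := projective_iff_hasProjectiveDimensionLT_one.1
          (inferInstance : Projective (ModuleCat.of R (C (t + 1 + 1))))
        show HasProjectiveDimensionLT (ModuleCat.of R (C (t + 1 + 1))) _
        exact hasProjectiveDimensionLT_of_ge _ 1 _ (by omega))
    have h1 : ¬ HasProjectiveDimensionLT (ModuleCat.of R Q) 1 := fun h => hnf <| by
      haveI : Module.Projective R Q :=
        (IsProjective.iff_projective (R := R) Q).2 (projective_iff_hasProjectiveDimensionLT_one.2 h)
      exact Module.free_of_flat_of_isLocalRing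
    have hAB := H02CA.AuslanderBuchsbaum.depth_eq_add 1 Q h2 h1
    have hge : depth R R ≤ depth R Q := by
      refine le_trans (le_min ?_ le_rfl) (hdep (N - (t + 1)) (t + 1) (by omega))
      exact hp.trans (Nat.cast_le.2 (by omega))
    obtain ⟨e, he⟩ := ENat.ne_top_iff_exists.mp (ne_top_of_le_ne_top (ENat.natCast_ne_top p) hp)
    rw [← he] at hge hAB
    have hfin : depth R Q ≠ ⊤ := fun h => by rw [h] at hAB; simp at hAB
    obtain ⟨l, hl⟩ := ENat.ne_top_iff_exists.mp hfin
    rw [← hl] at hge hAB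
    norm_cast at hge hAB
    omega

omit [IsLocalRing R] [IsNoetherianRing R] [∀ n, Module.Finite R (C n)] [∀ n, Module.Free R (C n)] in
/-- Fibre exactness from freeness of two cokernels. -/
theorem exact_baseChange {n : ℕ} (h : Function.Exact (d n) (d (n + 1)))
    [Module.Free R (C (n + 1 + 1) ⧸ LinearMap.range (d (n + 1)))] (k : Type u) [CommRing k] [Algebra R k] :
    Function.Exact ((d n).baseChange k) ((d (n + 1)).baseChange k) := by
  have hι := LinearMap.lTensor_injective_of_exact_of_flat _ (Submodule.mkQ_surjective _) _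
    (injective_cokerMap C d h) (exact_cokerMap C d h) k
  have hq := lTensor_exact k (LinearMap.exact_map_mkQ_range (d n)) (Submodule.mkQ_surjective _)
  intro x
  have hc : (d (n + 1)).baseChange k x =
      (cokerMap C d h).lTensor k ((LinearMap.range (d n)).mkQ.lTensor k x) := by
    rw [← LinearMap.comp_apply, ← LinearMap.lTensor_comp, cokerMap, Submodule.liftQ_mkQ]
    rfl
  rw [hc]
  exact ⟨fun hx => (hq x).1 (hι (hx.trans (map_zero _).symm)), fun hx => by rw [(hq x).2 hx, map_zero]⟩

omit [IsLocalRing R] [IsNoetherianRing R] in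
/-- Torsion-free homology. -/
theorem mem_range_of_torsionFree (T : ShortComplex (ModuleCat.{u} R)) (H : ModuleCat.{u} R) (e : H ≅ T.homology)
    (r : R) (htf : ∀ v : H, r • v = 0 → v = 0) (x : T.X₂) (hx : T.g.hom x = 0)
    (hrx : r • x ∈ LinearMap.range T.f.hom) : x ∈ LinearMap.range T.f.hom := by
  let e' := e ≪≫ T.moduleCatHomologyIso
  let cls := T.moduleCatLeftHomologyData.π.hom ⟨x, hx⟩
  obtain ⟨w, hw⟩ := hrx
  have h0 : r • cls = 0 := by
    refine Eq.trans (T.moduleCatLeftHomologyData.π.hom.map_smul r _).symm ?_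
    exact (Submodule.Quotient.mk_eq_zero _).2 ⟨w, Subtype.ext hw⟩
  have h1 : r • e'.inv.hom cls = 0 :=
    ((e'.inv.hom.map_smul r cls).symm.trans (congrArg _ h0)).trans (map_zero e'.inv.hom)
  have h2 := congrArg e'.hom.hom (htf _ h1)
  rw [map_zero] at h2
  have h3 : cls = 0 := (congr(($(e'.inv_hom_id)).hom cls)).symm.trans h2
  obtain ⟨w', hw'⟩ := (Submodule.Quotient.mk_eq_zero _).1 h3
  exact ⟨w', congrArg Subtype.val hw'⟩

end algebra

variable {X V Z : Scheme.{u}}

theorem isZero_fibre_below (f : Z ⟶ V) (z : Z) [IsNoetherianRing (V.presheaf.stalk (f.base z))]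
    (S : CochainComplex V.Modules ℤ) (hS : DCoh.IsStrictlyPerfect S) (c : ℤ) (p δ : ℕ) (hδ : δ ≤ 1)
    (hp : depth (V.presheaf.stalk (f.base z)) (V.presheaf.stalk (f.base z)) ≤ p)
    (htors : δ = 1 → ∀ i j l : ℤ, i + 1 = j → j = c → j + 1 = l →
      ∀ r ∈ nonZeroDivisors (V.presheaf.stalk (f.base z)), ∀ x, H06Mod.stalkLin (S.d j l) (f.base z) x = 0 →
        r • x ∈ LinearMap.range (H06Mod.stalkLin (S.d i j) (f.base z)) →
        x ∈ LinearMap.range (H06Mod.stalkLin (S.d i j) (f.base z)))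
    (h : ∀ j, j < c → f.base z ∉ CohB1.support (S.homology j)) (m : ℤ) (hm' : m < c) (hm : m + p < c + δ) :
    IsZero ((DerSch.stalkFunctor Z z).obj
      ((((Scheme.Modules.pullback f).mapHomologicalComplex (ComplexShape.up ℤ)).obj S).homology m)) := by
  letI := H06Mod.stalkAlgebra f z
  let R := V.presheaf.stalk (f.base z)
  let k := Z.presheaf.stalk z
  let y := f.base z
  let C' := ((DerSch.stalkFunctor V y).mapHomologicalComplex (ComplexShape.up ℤ)).obj S
  haveI : ∀ j, Module.Finite R ((S.X j).presheaf.stalk y) := fun j =>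
    H06Mod.finite_stalk _ (H29Fitt.isFT_of_isFP _ (H8Props.FinLocFree.isFP_of_isFinLocFree _ (hS.2 j))) y
  haveI : ∀ j, Module.Free R ((S.X j).presheaf.stalk y) := fun j =>
    H8Props.FinLocFree.free_stalk _ (hS.2 j) y
  obtain ⟨a, b, hab⟩ := hS.1
  obtain ⟨a₀, n, ha₀, rfl⟩ : ∃ (a₀ : ℤ) (n : ℕ), a₀ < a ∧ m = a₀ + (n + 1 : ℕ) :=
    ⟨min (a - 1) (m - 1), (m - 1 - min (a - 1) (m - 1)).toNat, by omega, by omega⟩
  obtain ⟨N, hN⟩ : ∃ N : ℕ, c = a₀ + (N + 1 : ℕ) := ⟨(c - 1 - a₀).toNat, by omega⟩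
  let M : ℕ → Type u := fun t => (S.X (a₀ + (t : ℕ))).presheaf.stalk y
  let d : ∀ t : ℕ, (S.X (a₀ + t)).presheaf.stalk y →ₗ[R] (S.X (a₀ + (t + 1 : ℕ))).presheaf.stalk y :=
    fun t => H06Mod.stalkLin (S.d (a₀ + t) (a₀ + (t + 1 : ℕ))) y
  haveI : Subsingleton (M 0) :=
    @ModuleCat.subsingleton_of_isZero _ _ ((DerSch.stalkFunctor V y).obj (S.X (a₀ + (0 : ℕ))))
      ((DerSch.stalkFunctor V y).map_isZero (hab _ (Or.inl (by simpa using ha₀))))
  have hex : ∀ t < N, Function.Exact (d t) (d (t + 1)) := fun t ht => by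
    have hC' : C'.ExactAt (a₀ + (t + 1 : ℕ)) := by
      rw [HomologicalComplex.exactAt_iff_isZero_homology]
      refine IsZero.of_iso ?_ ((S.sc (a₀ + (t + 1 : ℕ))).mapHomologyIso (DerSch.stalkFunctor V y))
      haveI : Subsingleton ((S.homology (a₀ + (t + 1 : ℕ))).presheaf.stalk y) := not_not.1 (h _ (by omega))
      exact @ModuleCat.isZero_of_subsingleton _ _ ((DerSch.stalkFunctor V y).obj (S.homology (a₀ + (t + 1 : ℕ))))
        (inferInstanceAs (Subsingleton ((S.homology (a₀ + (t + 1 : ℕ))).presheaf.stalk y)))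
    rw [HomologicalComplex.exactAt_iff' _ (a₀ + (t : ℕ)) (a₀ + (t + 1 : ℕ)) (a₀ + (t + 1 + 1 : ℕ))
      (by simp; omega) (by simp; omega),
      ShortComplex.ShortExact.moduleCat_exact_iff_function_exact] at hC'
    exact hC'
  have hbase : min (δ : ℕ∞) (depth R R) ≤ depth R (M (N + 1) ⧸ LinearMap.range (d N)) := by
    rcases Nat.le_one_iff_eq_zero_or_eq_one.1 hδ with h0 | h1
    · rw [h0, Nat.cast_zero, zero_min]; exact zero_le
    by_cases hR : depth R R = 0
    · rw [hR, min_zero]; exact zero_le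
    refine le_trans (min_le_left _ _) ?_
    rw [h1, Nat.cast_one]
    let Q := M (N + 1) ⧸ LinearMap.range (d N)
    by_cases hQ : IsLocalRing.maximalIdeal R • (⊤ : Submodule R Q) = ⊤
    · exact le_of_le_of_eq le_top (H4Depth.idealDepth_eq_top hQ).symm
    refine (H4Depth.one_le_idealDepth_iff hQ).2 ?_
    have hRtop : IsLocalRing.maximalIdeal R • (⊤ : Submodule R R) ≠ ⊤ :=
      H02CA.AuslanderBuchsbaum.smul_top_ne_top R
    obtain ⟨x, hx, hreg⟩ := (H4Depth.one_le_idealDepth_iff hRtop).1 (Order.one_le_iff_ne_zero.2 hR)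
    have hr : x ∈ nonZeroDivisors R := mem_nonZeroDivisors_iff_right.2 fun y hy =>
      hreg (show x • y = x • (0 : R) by rw [smul_zero, smul_eq_mul, mul_comm, hy])
    refine ⟨x, hx, fun q₁ q₂ hq => ?_⟩
    obtain ⟨u, hu⟩ := Submodule.mkQ_surjective _ (q₁ - q₂)
    have hxu : x • u ∈ LinearMap.range (d N) := by
      rw [← Submodule.Quotient.mk_eq_zero, Submodule.Quotient.mk_smul]
      show x • (LinearMap.range (d N)).mkQ u = 0
      rw [hu, smul_sub, show x • q₁ = x • q₂ from hq, sub_self]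
    have hdu : d (N + 1) u = 0 := by
      obtain ⟨w, hw⟩ := hxu
      have h0 : d (N + 1) (x • u) = 0 := by
        rw [← hw]
        exact congr(($(C'.d_comp_d (a₀ + (N : ℕ)) (a₀ + (N + 1 : ℕ)) (a₀ + (N + 1 + 1 : ℕ)))).hom w)
      rw [map_smul] at h0
      haveI : Module.Flat R (M (N + 1 + 1)) := inferInstance
      exact (Module.Flat.isSMulRegular_of_nonZeroDivisors hr : IsSMulRegular (M (N + 1 + 1)) x)
        (h0.trans (smul_zero x).symm)
    have := htors h1 (a₀ + (N : ℕ)) (a₀ + (N + 1 : ℕ)) (a₀ + (N + 1 + 1 : ℕ)) (by push_cast; omega) hN.symm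
      (by push_cast; omega) x hr u hdu hxu
    rw [← sub_eq_zero, ← hu]
    exact (Submodule.Quotient.mk_eq_zero _).2 this
  haveI := free_coker M d N p δ hp hbase hex (n + 1) (by omega) (by omega)
  have hk := exact_baseChange M d (hex n (by omega)) k
  let P := ((Scheme.Modules.pullback f).mapHomologicalComplex (ComplexShape.up ℤ)).obj S
  let C := ((DerSch.stalkFunctor Z z).mapHomologicalComplex (ComplexShape.up ℤ)).obj P
  have hC : C.ExactAt (a₀ + (n + 1 : ℕ)) := by
    rw [HomologicalComplex.exactAt_iff' _ (a₀ + (n : ℕ)) (a₀ + (n + 1 : ℕ)) (a₀ + (n + 1 + 1 : ℕ))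
      (by simp; omega) (by simp; omega),
      ShortComplex.ShortExact.moduleCat_exact_iff_function_exact]
    let e : ∀ j, k ⊗[R] (S.X j).presheaf.stalk y ≃ₗ[k] ((Scheme.Modules.pullback f).obj (S.X j)).presheaf.stalk z :=
      fun j => H06Mod.pullStalkEquiv f (S.X j) z
    refine (Function.Exact.iff_of_ladder_linearEquiv (R := k) (e₁ := e (a₀ + (n : ℕ)))
      (e₂ := e (a₀ + (n + 1 : ℕ))) (e₃ := e (a₀ + (n + 1 + 1 : ℕ)))
      (f₁₂ := (d n).baseChange k) (f₂₃ := (d (n + 1)).baseChange k)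
      (g₁₂ := H06Mod.stalkLin ((Scheme.Modules.pullback f).map (S.d (a₀ + (n : ℕ)) (a₀ + (n + 1 : ℕ)))) z)
      (g₂₃ := H06Mod.stalkLin ((Scheme.Modules.pullback f).map (S.d (a₀ + (n + 1 : ℕ)) (a₀ + (n + 1 + 1 : ℕ)))) z)
      ?_ ?_).2 hk
    · exact LinearMap.ext fun t => (pullStalkLin_naturality f z (S.d (a₀ + (n : ℕ)) (a₀ + (n + 1 : ℕ))) t).symm
    · exact LinearMap.ext fun t =>
        (pullStalkLin_naturality f z (S.d (a₀ + (n + 1 : ℕ)) (a₀ + (n + 1 + 1 : ℕ))) t).symm
  rw [HomologicalComplex.exactAt_iff_isZero_homology] at hC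
  exact hC.of_iso ((P.sc (a₀ + (n + 1 : ℕ))).mapHomologyIso (DerSch.stalkFunctor Z z)).symm

/-- If the cohomology vanishes below `c`, the derived fibre at `x` vanishes below `c - dim O_x`. -/
theorem isZero_lpull_below [IsLocallyNoetherian X] (K : DCoh.D X) (hK : DCoh.IsPerfect K) (x : X)
    [DCoh.HasLpull (X.fromSpecResidueField x)] (c : ℤ) (p : ℕ)
    (hp : ringKrullDim (X.presheaf.stalk x) ≤ (p : WithBot ℕ∞))
    (h : ∀ j, j < c → IsZero (DCoh.HD K j)) (m : ℤ) (hm : m + p < c) :
    IsZero (DCoh.HD ((DCoh.Lpull (X.fromSpecResidueField x)).obj K) m) := by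
  obtain ⟨W, hxW, S, hS, ⟨α⟩⟩ := (isPerfect_iff K).1 hK x
  obtain ⟨f, hf, hfp⟩ := exists_lift_residueField W ⟨x, hxW⟩
  obtain ⟨P, hP, ⟨e⟩⟩ := exists_kflat_rep K
  haveI := hasLpull f
  let g := X.fromSpecResidueField x
  let β : DCoh.toD _ S ≅ DCoh.toD _ ((DCoh.restrictCx W).obj P) :=
    α ≪≫ (rd W.ι).mapIso e.symm ≪≫ (rdQ W.ι).app P
  let θ : DCoh.HD ((DCoh.Lpull g).obj K) m ≅
      (((Scheme.Modules.pullback f).mapHomologicalComplex (ComplexShape.up ℤ)).obj S).homology m :=
    (DerivedCategory.homologyFunctor _ m).mapIso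
        ((DCoh.Lpull g).mapIso e.symm ≪≫ lpullObjIso g P hP ≪≫
          DerivedCategory.Q.mapIso (pullbackFactorIso W f g hf P) ≪≫
          (lpullObjIso f _ (kflat_restrict W hP)).symm ≪≫ (DCoh.Lpull f).mapIso β.symm ≪≫
          lpullObjIso f S (kflat_of_isStrictlyPerfect hS)) ≪≫
      (DerivedCategory.homologyFunctorFactors _ m).app _
  refine IsZero.of_iso ?_ θ
  refine KFlat.Stalk.isZero_of_stalk fun z => ?_
  haveI : IsLocallyNoetherian W.toScheme := isLocallyNoetherian_of_isOpenImmersion W.ι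
  haveI : IsNoetherianRing (W.toScheme.presheaf.stalk (f.base z)) := inferInstance
  refine isZero_fibre_below f z S hS c p 0 (by omega) ?_ (fun h0 => absurd h0 (by omega)) (fun j hj hm => ?_) m
    (by omega) (by omega)
  · refine WithBot.coe_le_coe.1 ((H4Depth.depth_le_supportDim.trans ?_).trans hp)
    rw [hfp z]
    exact (Module.supportDim_le_ringKrullDim _ _).trans
      (ringKrullDim_eq_of_ringEquiv (W.stalkIso ⟨x, hxW⟩).commRingCatIsoToRingEquiv).le
  · rw [hfp z] at hm
    refine (Set.eq_empty_iff_forall_notMem.1 (Thomason.support_eq_empty_of_isZero (h j hj)) x) ?_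
    exact (Thomason.mem_support_rd W.ι K j _).1 ((MVPush.support_iso
      (((DerivedCategory.homologyFunctorFactors _ j).app S).symm ≪≫
        (DerivedCategory.homologyFunctor _ j).mapIso α)).le hm)

/-- The local rings of an open subscheme. -/
noncomputable def stalkEquiv' (W : X.Opens) (w : ↥(W : Scheme.{u})) :
    (W : Scheme.{u}).presheaf.stalk w ≃+* X.presheaf.stalk (W.ι w) :=
  (W.stalkIso w).commRingCatIsoToRingEquiv

/-- The scalar action on the stalks of a restriction. -/
theorem rst_smul (W : X.Opens) (M : X.Modules) (w : ↥(W : Scheme.{u}))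
    (a : (W : Scheme.{u}).presheaf.stalk w) (v : (M.restrict W.ι).presheaf.stalk w) :
    H10Inj.GGOn.rst W M w (a • v) = stalkEquiv' W w a • H10Inj.GGOn.rst W M w v := by
  obtain ⟨U, hw, r, m, rfl, rfl⟩ := H06Mod.exists_germ_pair (M.restrict W.ι) w a v
  have hr : stalkEquiv' W w ((W : Scheme.{u}).presheaf.germ U w hw r) =
      X.presheaf.germ (W.ι ''ᵁ U) (W.ι w) ⟨w, hw, rfl⟩ ((W.ι.appIso U).inv r) := by
    have h := congr($(W.germ_stalkIso_hom w hw) r)
    simp only [Scheme.Opens.ι_appIso] at h ⊢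
    exact h
  rw [hr, ← H06Mod.germ_smul]
  erw [H10Inj.GGOn.restrictStalk_germ, H10Inj.GGOn.restrictStalk_germ]
  erw [← H06Mod.germ_smul]
  rfl

/-- With torsion-free lowest cohomology, the derived fibre vanishes one degree further up. -/
theorem isZero_lpull_below_tors [IsLocallyNoetherian X] (K : DCoh.D X) (hK : DCoh.IsPerfect K) (x : X)
    [DCoh.HasLpull (X.fromSpecResidueField x)] (c : ℤ) (p : ℕ)
    (hp : ringKrullDim (X.presheaf.stalk x) ≤ (p : WithBot ℕ∞))
    (h : ∀ j, j < c → IsZero (DCoh.HD K j))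
    (htf : ∀ r ∈ nonZeroDivisors (X.presheaf.stalk x), ∀ v : (DCoh.HD K c).presheaf.stalk x, r • v = 0 → v = 0)
    (m : ℤ) (hm' : m < c) (hm : m + p ≤ c) :
    IsZero (DCoh.HD ((DCoh.Lpull (X.fromSpecResidueField x)).obj K) m) := by
  obtain ⟨W, hxW, S, hS, ⟨α⟩⟩ := (isPerfect_iff K).1 hK x
  obtain ⟨f, hf, hfp⟩ := exists_lift_residueField W ⟨x, hxW⟩
  obtain ⟨P, hP, ⟨e⟩⟩ := exists_kflat_rep K
  haveI := hasLpull f
  let g := X.fromSpecResidueField x
  let β : DCoh.toD _ S ≅ DCoh.toD _ ((DCoh.restrictCx W).obj P) :=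
    α ≪≫ (rd W.ι).mapIso e.symm ≪≫ (rdQ W.ι).app P
  let θ : DCoh.HD ((DCoh.Lpull g).obj K) m ≅
      (((Scheme.Modules.pullback f).mapHomologicalComplex (ComplexShape.up ℤ)).obj S).homology m :=
    (DerivedCategory.homologyFunctor _ m).mapIso
        ((DCoh.Lpull g).mapIso e.symm ≪≫ lpullObjIso g P hP ≪≫
          DerivedCategory.Q.mapIso (pullbackFactorIso W f g hf P) ≪≫
          (lpullObjIso f _ (kflat_restrict W hP)).symm ≪≫ (DCoh.Lpull f).mapIso β.symm ≪≫
          lpullObjIso f S (kflat_of_isStrictlyPerfect hS)) ≪≫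
      (DerivedCategory.homologyFunctorFactors _ m).app _
  have hS' : ∀ j, S.homology j ≅ (Scheme.Modules.restrictFunctor W.ι).obj (DCoh.HD K j) := fun j =>
    ((DerivedCategory.homologyFunctorFactors _ j).app S).symm ≪≫
      (DerivedCategory.homologyFunctor _ j).mapIso α ≪≫ homologyRdIso W.ι K j
  refine IsZero.of_iso ?_ θ
  refine KFlat.Stalk.isZero_of_stalk fun z => ?_
  haveI : IsLocallyNoetherian W.toScheme := isLocallyNoetherian_of_isOpenImmersion W.ι
  haveI : IsNoetherianRing (W.toScheme.presheaf.stalk (f.base z)) := inferInstance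
  have htors : ∀ (w : ↥(W : Scheme.{u})), w = (⟨x, hxW⟩ : ↥(W : Scheme.{u})) →
      ∀ r ∈ nonZeroDivisors ((W : Scheme.{u}).presheaf.stalk w),
      ∀ v : (S.homology c).presheaf.stalk w, r • v = 0 → v = 0 := by
    intro w hw r hr v hv
    have htf' : ∀ r ∈ nonZeroDivisors (X.presheaf.stalk (W.ι w)),
        ∀ v : (DCoh.HD K c).presheaf.stalk (W.ι w), r • v = 0 → v = 0 := by subst hw; exact htf
    let ε := (DerSch.stalkFunctor W.toScheme w).mapIso (hS' c)
    let v' : ((DerSch.stalkFunctor W.toScheme w).obj (S.homology c) : Type u) := v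
    have h1 : r • ε.hom v' = 0 := by
      rw [← map_smul]
      show ε.hom.hom (r • v : (S.homology c).presheaf.stalk w) = 0
      rw [hv]; exact map_zero ε.hom.hom
    let v'' : ((DCoh.HD K c).restrict W.ι).presheaf.stalk w := ε.hom v'
    have h2 : stalkEquiv' W w r • H10Inj.GGOn.rst W (DCoh.HD K c) w v'' = 0 := by
      rw [← rst_smul]; exact (congrArg _ h1).trans (map_zero _)
    have hr' : stalkEquiv' W w r ∈ nonZeroDivisors (X.presheaf.stalk (W.ι w)) :=
      MulEquivClass.map_nonZeroDivisors (stalkEquiv' W w) ▸ Submonoid.mem_map_of_mem _ hr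
    have h3 : v'' = 0 :=
      (H10Inj.GGOn.rst_bijective W (DCoh.HD K c) w).1 ((htf' _ hr' _ h2).trans (map_zero _).symm)
    have h4 : ε.inv.hom (ε.hom.hom v') = 0 := (congrArg ε.inv.hom h3).trans (map_zero ε.inv.hom)
    exact (congr(($(ε.hom_inv_id)).hom v')).symm.trans h4
  refine isZero_fibre_below f z S hS c p 1 le_rfl ?_ (fun _ => ?_) (fun j hj hm => ?_) m hm' (by omega)
  · refine WithBot.coe_le_coe.1 ((H4Depth.depth_le_supportDim.trans ?_).trans hp)
    rw [hfp z]
    exact (Module.supportDim_le_ringKrullDim _ _).trans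
      (ringKrullDim_eq_of_ringEquiv (W.stalkIso ⟨x, hxW⟩).commRingCatIsoToRingEquiv).le
  · intro i j l hi hj hl r hr u hu hru
    subst hj
    let C' := ((DerSch.stalkFunctor W.toScheme (f.base z)).mapHomologicalComplex (ComplexShape.up ℤ)).obj S
    exact mem_range_of_torsionFree (C'.sc' i j l) ((DerSch.stalkFunctor W.toScheme (f.base z)).obj (S.homology j))
      (((S.sc j).mapHomologyIso (DerSch.stalkFunctor W.toScheme (f.base z))).symm ≪≫
        C'.homologyIsoSc' i j l (by simp; omega) (by simp; omega))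
      r (htors _ (hfp z) r hr) u hu hru
  · rw [hfp z] at hm
    refine (Set.eq_empty_iff_forall_notMem.1 (Thomason.support_eq_empty_of_isZero (h j hj)) x) ?_
    exact (Thomason.mem_support_rd W.ι K j _).1 ((MVPush.support_iso
      (((DerivedCategory.homologyFunctorFactors _ j).app S).symm ≪≫
        (DerivedCategory.homologyFunctor _ j).mapIso α)).le hm)

end Groth.Agent.H16Derived.FMKDual
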