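import Groth.Agent.S3603
import Groth.Agent.S3637
import Groth.Agent.LeadBrown.FiniteDual
import Groth.Agent.LeadBrown.RHomPull
import Groth.Agent.LeadBrown.ShiftTensor
import Groth.Agent.H16Derived.H0Split.Unit
import Groth.Agent.H16Derived.FMKWit.Main
import Groth.Prelude.Def_DualFM

/-!
# `(Φ_P E)^∨ ≅ Φ_{P^∨}(RΔ E [d])`
-/

set_option autoImplicit false
set_option linter.style.haveILetI false
set_option backward.isDefEq.respectTransparency false

universe u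

open CategoryTheory CategoryTheory.Limits AlgebraicGeometry

attribute [local instance] HasDerivedCategory.standard

namespace Groth.Agent.H16Derived.FMKDual

open Groth.Agent.H16Derived Groth.Agent.H16Derived.KFlat Groth.Agent.H16Derived.KFlat.Stalk
open Groth.Agent.LeadBrown (cT isIso_wR isIso_alphaR universal_trace alphaR isQCohD_R_perfect rOneIso)
open Groth.Agent.H16Derived.Dual (T R ro one σ α)

variable {X : Scheme.{u}}

/-- `a⟦n⟧ ⊗ b ≅ (a ⊗ b)⟦n⟧`. -/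
noncomputable def tensorShiftLeft (a b : DCoh.D X) (n : ℤ) :
    ((T X).obj (a⟦n⟧)).obj b ≅ (((T X).obj a).obj b)⟦n⟧ :=
  ((T X).mapIso ((LeadBrown.TFlipShiftIso X n).app a).symm).app b ≪≫ α a _ b ≪≫
    ((T X).obj a).mapIso (σ _ b) ≪≫ (α a b _).symm ≪≫ (LeadBrown.TFlipShiftIso X n).app _

/-- `a ⊗ (b ⊗ c) ≅ (a ⊗ c) ⊗ b`. -/
noncomputable def tensorSwap (a b c : DCoh.D X) :
    ((T X).obj a).obj (((T X).obj b).obj c) ≅ ((T X).obj (((T X).obj a).obj c)).obj b :=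
  ((T X).obj a).mapIso (σ b c) ≪≫ (α a c b).symm

/-- An object with cohomology only in degree `-d`. -/
theorem nonempty_iso_shift (L : DCoh.D X) (d : ℕ) (h : ∀ i : ℤ, i ≠ -(d : ℤ) → IsZero (DCoh.HD L i)) :
    Nonempty (L ≅ (DCoh.inD X (DCoh.HD L (-(d : ℤ))))⟦(d : ℤ)⟧) := by
  haveI : DerivedCategory.IsGE L (-(d : ℤ)) := (DerivedCategory.isGE_iff _ _).2 fun i hi => h i (by omega)
  haveI : DerivedCategory.IsLE L (-(d : ℤ)) := (DerivedCategory.isLE_iff _ _).2 fun i hi => h i (by omega)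
  obtain ⟨M, ⟨e⟩⟩ := L.exists_iso_singleFunctor_obj_of_isGE_of_isLE (-(d : ℤ))
  let eM : DCoh.HD L (-(d : ℤ)) ≅ M :=
    (DerivedCategory.homologyFunctor _ (-(d : ℤ))).mapIso e ≪≫ hdSingle M _
  exact ⟨e ≪≫ (((DerivedCategory.singleFunctors X.Modules).shiftIso (d : ℤ) (-(d : ℤ)) 0 (by omega)).app M).symm ≪≫
    (shiftFunctor _ (d : ℤ)).mapIso ((DerivedCategory.singleFunctor X.Modules 0).mapIso eM.symm)⟩

/-- The dual of a tensor product of perfect objects. -/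
theorem nonempty_R_tensor {a b : DCoh.D X} (ha : DCoh.IsPerfect a) (L : DCoh.D X)
    (hab : DCoh.IsPerfect (((T X).obj a).obj b)) :
    Nonempty ((R (((T X).obj a).obj b)).obj L ≅ ((T X).obj (((T X).obj L).obj (ro a))).obj (ro b)) :=
  ⟨(Dual.θIso hab L).symm ≪≫
    ((T X).obj L).mapIso ((Dual.curryIso a b (one X)).symm ≪≫ (Dual.θIso ha (ro b)).symm) ≪≫ tensorSwap _ _ _⟩

variable {k : Type u} [Field k] {Y : Scheme.{u}} (a : X ⟶ Spec (CommRingCat.of k)) (b : Y ⟶ Spec (CommRingCat.of k))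
  [IsProper a] [IsProper b]

theorem dual_phi (hXcm : ∀ x : ↥X, LocCoh.IsCohenMacaulayLocalRing ↑(X.presheaf.stalk x))
    (d : ℕ) (hXeq : ∀ Z ∈ irreducibleComponents ↥X, topologicalKrullDim ↥Z = (d : WithBot ℕ∞))
    [DCoh.HasRpush a] (ha : DCoh.RpushPreservesQCoh a)
    (adx : DCoh.DQCoh (Spec (CommRingCat.of k)) ⥤ DCoh.DQCoh X) (adj : DCoh.RpushQ a ha ⊣ adx)
    (O : DCoh.DQCoh (Spec (CommRingCat.of k)))
    (hO : Nonempty (O.obj ≅ DCoh.inD (Spec (CommRingCat.of k)) (Coh.structureModule (Spec (CommRingCat.of k)))))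
    [DCoh.HasLpull (pullback.fst a b)] [DCoh.HasRpush (pullback.snd a b)]
    {P : DCoh.D (pullback a b)} (hP : DCoh.IsPerfect P) {E : DCoh.D X} (hE : DCoh.IsPerfect E) :
    Nonempty (ro ((DCoh.Rpush (pullback.snd a b)).obj
        (((T _).obj ((DCoh.Lpull (pullback.fst a b)).obj E)).obj P)) ≅
      (DCoh.Rpush (pullback.snd a b)).obj (((T _).obj ((DCoh.Lpull (pullback.fst a b)).obj
        (((R E).obj (DCoh.inD X (DCoh.HD (adx.obj O).obj (-(d : ℤ)))))⟦(d : ℤ)⟧))).obj (ro P))) := by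
  let p := pullback.fst a b
  let q := pullback.snd a b
  haveI : Flat a := inferInstance
  haveI : LocallyOfFinitePresentation a := inferInstance
  haveI : CompactSpace X := QuasiCompact.compactSpace_of_compactSpace a
  haveI : QuasiSeparatedSpace X := quasiSeparatedSpace_of_quasiSeparated a
  haveI : CompactSpace Y := QuasiCompact.compactSpace_of_compactSpace b
  haveI : QuasiSeparatedSpace Y := quasiSeparatedSpace_of_quasiSeparated b
  haveI : CompactSpace ↥(pullback a b) := QuasiCompact.compactSpace_of_compactSpace (pullback.snd a b)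
  haveI : QuasiSeparatedSpace ↥(pullback a b) := quasiSeparatedSpace_of_quasiSeparated (pullback.snd a b)
  haveI := hasLpull b
  haveI := QCohD.hasRpush b
  haveI := QCohD.hasRpush (pullback.fst a b)
  haveI := hasLpull (pullback.snd a b)
  have hb : DCoh.RpushPreservesQCoh b := fun K hK => QCohD.isQCohD_rpush _ hK
  have hp : DCoh.RpushPreservesQCoh p := fun K hK => QCohD.isQCohD_rpush _ hK
  have hq : DCoh.RpushPreservesQCoh q := fun K hK => QCohD.isQCohD_rpush _ hK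
  have hLb : Dual3.LpullPreservesQCoh b := fun _ hK => QCohD.isQCohD_lpull b hK
  have hLp : Dual3.LpullPreservesQCoh p := fun _ hK => QCohD.isQCohD_lpull p hK
  haveI := LeadBrown.isLeftAdjoint_rpushQ q hq
  let aq := (DCoh.RpushQ q hq).rightAdjoint
  let adjq : DCoh.RpushQ q hq ⊣ aq := Adjunction.ofIsLeftAdjoint _
  obtain ⟨e, hξ, hbc⟩ := S3603.result X (Spec (CommRingCat.of k)) (pullback a b) Y a b q p
    (IsPullback.of_hasPullback a b) ha hq hb hp adx aq adj adjq hLb hLp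
    (LeadBrown.adjQ b hLb hb) (LeadBrown.adjQ p hLp hp)
  haveI := hbc O
  let β : (Dual3.LpullQ p hLp).obj (adx.obj O) ≅ aq.obj ((Dual3.LpullQ b hLb).obj O) :=
    asIso (Dual3.bcMap adj adjq e (LeadBrown.adjQ b hLb hb) (LeadBrown.adjQ p hLp hp) O (hξ _))
  let OY := (Dual3.LpullQ b hLb).obj O
  let eO : OY.obj ≅ one Y :=
    (DCoh.Lpull b).mapIso hO.some ≪≫ H0Split.lpullO b ≪≫ Dual.oneIso
  -- `Rq_*`-duality
  let M := ((T _).obj ((DCoh.Lpull p).obj E)).obj P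
  have hM : DCoh.IsPerfect M := by
    obtain ⟨P', hP', ⟨eP⟩⟩ := exists_kflat_rep P
    haveI := hasLTensorCx P'
    exact isPerfect_of_iso ((Dual.ltensorCxIsoT P').symm.app _ ≪≫ ((T _).obj _).mapIso eP)
      (isPerfect_ltensorCx P' ((isKFlat_iff' P').2 hP') (isPerfect_of_iso eP.symm hP) (isPerfect_lpull p hE))
  have hC : DCoh.IsPerfect ((DCoh.Rpush q).obj M) := BaseChange.isPerfect_rpush q hM
  haveI := isIso_alphaR q (Dual.isQCohD_of_isPerfect hM) (adjq.counit.app OY).hom (universal_trace adjq OY)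
    (QCohD.isQCohD_rpush q (isQCohD_R_perfect hM (aq.obj OY).property)) (isQCohD_R_perfect hC OY.property)
  let e₁ : ro ((DCoh.Rpush q).obj M) ≅ (DCoh.Rpush q).obj ((R M).obj (aq.obj OY).obj) :=
    (R _).mapIso eO.symm ≪≫ (asIso (alphaR q M (adjq.counit.app OY).hom)).symm
  -- the dualizing complex
  obtain ⟨hω, -, -⟩ := S3637.result k X a hXcm d hXeq ha adx adj O hO
  obtain ⟨ew⟩ := nonempty_iso_shift (adx.obj O).obj d hω
  let eω : (aq.obj OY).obj ≅ (DCoh.Lpull p).obj ((DCoh.inD X (DCoh.HD (adx.obj O).obj (-(d : ℤ))))⟦(d : ℤ)⟧) :=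
    ((ObjectProperty.ι _).mapIso β).symm ≪≫ (DCoh.Lpull p).mapIso ew
  -- the dual of `Lp^*E`
  haveI := isIso_wR p hE (one X)
  let eD : ro ((DCoh.Lpull p).obj E) ≅ (DCoh.Lpull p).obj (ro E) :=
    (R _).mapIso ((DCoh.Lpull p).mapIso Dual.oneIso.symm ≪≫ H0Split.lpullO p ≪≫ Dual.oneIso).symm ≪≫
      (asIso (LeadBrown.wR p E (one X))).symm
  obtain ⟨e₂⟩ := nonempty_R_tensor (a := (DCoh.Lpull p).obj E) (b := P) (isPerfect_lpull p hE) (aq.obj OY).obj hM
  let ω₀ := DCoh.inD X (DCoh.HD (adx.obj O).obj (-(d : ℤ)))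
  let e₃ : ((T _).obj (aq.obj OY).obj).obj (ro ((DCoh.Lpull p).obj E)) ≅
      (DCoh.Lpull p).obj (((R E).obj ω₀)⟦(d : ℤ)⟧) :=
    ((T _).mapIso eω).app _ ≪≫ ((T _).obj _).mapIso eD ≪≫ (cT p _ _).symm ≪≫
      (DCoh.Lpull p).mapIso (tensorShiftLeft ω₀ (ro E) _ ≪≫ (shiftFunctor _ (d : ℤ)).mapIso (Dual.θIso hE ω₀))
  exact ⟨e₁ ≪≫ (DCoh.Rpush q).mapIso (e₂ ≪≫ ((T _).mapIso e₃).app _)⟩

end Groth.Agent.H16Derived.FMKDual
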