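import Groth.Agent.H16Derived.FMKDual.LocFreeKernel
import Groth.Agent.H16Derived.FMKDual.ExtVanish
import Groth.Agent.H16Derived.FMKWit.Locus
import Groth.Agent.H02CA.StrongGen.Main
import Groth.Agent.H17.DiagTensor.Derived
import Groth.Agent.H06EGA10.SupportDim
import Groth.Agent.H06EGA10.RectDepth
import Groth.Agent.H10Coh.TensorBasics

/-!
# WIT intervals for duals of GV sheaves
-/

set_option autoImplicit false
set_option linter.style.haveILetI false
set_option backward.isDefEq.respectTransparency false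

universe u

open CategoryTheory CategoryTheory.Limits AlgebraicGeometry CategoryTheory.Pretriangulated

attribute [local instance] HasDerivedCategory.standard

namespace Groth.Agent.H16Derived.FMKDual

open DerivedCategory.TStructure (t)
open Groth.Agent.H16Derived.KFlat Groth.Agent.H16Derived.KFlat.Stalk
open Groth.Agent.H16Derived.Dual (T R ro one σ α)

/-- The fibres of a transform with locally free kernel of a sheaf live in degrees `≥ 0`. -/
theorem isZero_fibre_phi {k : Type u} [Field k] {X Y : Scheme.{u}} (a : X ⟶ Spec (CommRingCat.of k))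
    (b : Y ⟶ Spec (CommRingCat.of k)) [IsProper a] [IsProper b]
    [DCoh.HasLpull (pullback.fst a b)] [DCoh.HasRpush (pullback.snd a b)]
    {P₀ : (pullback a b).Modules} (hP₀ : FlatMod.IsFinLocFree P₀) {A : DCoh.D X} (hA : DCoh.IsPerfect A) [A.IsGE 0]
    (y : Y) [DCoh.HasLpull (Y.fromSpecResidueField y)] (m : ℤ) (hm : m < 0) :
    IsZero (DCoh.HD ((DCoh.Lpull (Y.fromSpecResidueField y)).obj ((DCoh.Rpush (pullback.snd a b)).obj
      (((T _).obj ((DCoh.Lpull (pullback.fst a b)).obj A)).obj (DCoh.inD _ P₀)))) m) := by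
  let p := pullback.fst a b
  let q := pullback.snd a b
  let j := Y.fromSpecResidueField y
  let h := pullback.fst q j
  let Z := pullback q j
  haveI : Flat a := inferInstance
  haveI : LocallyOfFinitePresentation a := inferInstance
  haveI := hasLpull h
  haveI := hasLpull (h ≫ p)
  haveI := GammaAcyclic.hasRΓ Z
  haveI := GammaAcyclic.hasRΓ (Spec (Y.residueField y))
  haveI := QCohD.hasRpush h
  haveI : Flat (h ≫ p) := by
    have sq : IsPullback (h ≫ p) (pullback.snd q j) a (j ≫ b) :=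
      (IsPullback.of_hasPullback q j).paste_horiz (IsPullback.of_hasPullback a b)
    haveI : Flat (j ≫ b) := inferInstance
    exact MorphismProperty.of_isPullback (P := @Flat) sq.flip ‹_›
  have hE : DCoh.IsPerfect (((T _).obj ((DCoh.Lpull p).obj A)).obj (DCoh.inD _ P₀)) :=
    H02CA.StrongGen.isPerfect_T (isPerfect_lpull p hA) (isPerfect_inD hP₀)
  obtain ⟨e⟩ := FMKWit.nonempty_RΓ_fibre_iso q hE y
  refine H02CA.FibreVanish.isZero_HD_of_RΓ _ m (IsZero.of_iso ?_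
    ((DerivedCategory.homologyFunctor AddCommGrpCat.{u} m).mapIso e.symm))
  refine (FMKWit.isZero_rΓ_iff _ m).2 ?_
  obtain ⟨c⟩ := H25FM.nonempty_lpull_comp h p (h ≫ p) rfl
  obtain ⟨n⟩ := H25FM.nonempty_lpull_inD h (isFlat_of_isFinLocFree hP₀)
  let eL := LeadBrown.cT h ((DCoh.Lpull p).obj A) (DCoh.inD _ P₀) ≪≫
    ((T _).mapIso (c.app A)).app _ ≪≫ ((T _).obj _).mapIso n
  haveI := TorTest.isGE_lpull_of_flat (h ≫ p) A 0
  have hN : FlatMod.IsFinLocFree ((Scheme.Modules.pullback h).obj P₀) :=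
    isFinLocFree_pullback h hP₀
  haveI := isGE_T_inD hN ((DCoh.Lpull (h ≫ p)).obj A) 0
  haveI : DerivedCategory.IsGE ((DCoh.Lpull h).obj (((T _).obj ((DCoh.Lpull p).obj A)).obj (DCoh.inD _ P₀))) 0 :=
    ⟨(t.ge 0).prop_of_iso eL.symm (t.ge_of_isGE _ 0)⟩
  haveI : t.IsGE (((DCoh.Lpull h).obj (((T _).obj ((DCoh.Lpull p).obj A)).obj (DCoh.inD _ P₀)))⟦m⟧) (-m) :=
    t.isGE_shift _ 0 m (-m) (by omega)
  exact ⟨fun f g => (t.zero f 0 (-m) (by omega)).trans (t.zero g 0 (-m) (by omega)).symm⟩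

variable {Y : Scheme.{u}}

/-- Depth of a Cohen–Macaulay module with full support. -/
theorem depth_eq_dim [IsLocallyNoetherian Y] (W : Y.Modules) (hW : Coh.IsCoh W)
    (hn : ∀ y, Nontrivial (W.presheaf.stalk y))
    (hcm : ∀ y, LocCoh.IsCohenMacaulayModule (Y.presheaf.stalk y) (W.presheaf.stalk y)) (y : Y) :
    ((LocCoh.depth (Y.presheaf.stalk y) (W.presheaf.stalk y) : ℕ∞) : WithBot ℕ∞) =
      ringKrullDim (Y.presheaf.stalk y) := by
  refine (hcm y).symm.trans ((H06EGA10.supportDim_stalk_eq W hW y).trans ?_)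
  rw [H06EGA10.dim_stalk_eq y]
  have hs : {s : Y | s ∈ CohB1.support W ∧ s ⤳ y} = {s : Y | s ⤳ y} :=
    Set.ext fun s => ⟨fun h => h.2, fun h => ⟨not_subsingleton_iff_nontrivial.2 (hn s), h⟩⟩
  rw [hs]

/-- `a ⊗ b⟦n⟧ ≅ a⟦n⟧ ⊗ b`. -/
noncomputable def tensorShiftSwap (a b : DCoh.D Y) (n : ℤ) :
    ((T Y).obj a).obj (b⟦n⟧) ≅ ((T Y).obj (a⟦n⟧)).obj b :=
  σ a _ ≪≫ tensorShiftLeft b a n ≪≫ (shiftFunctor _ n).mapIso (σ b a) ≪≫ (tensorShiftLeft a b n).symm

/-- No maps from `G ⊗ C` to `W` for `G` below the GV bound. -/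
theorem subsingleton_hom_tensor [IsLocallyNoetherian Y] (W : Y.Modules) (hW : Coh.IsCoh W)
    (hdep : ∀ y, ((LocCoh.depth (Y.presheaf.stalk y) (W.presheaf.stalk y) : ℕ∞) : WithBot ℕ∞) =
      ringKrullDim (Y.presheaf.stalk y)) (k' : ℕ) (G : DCoh.D Y) [G.IsLE (-(k' : ℤ) - 1)] :
    ∀ (n : ℕ) (b : ℤ), b + 1 ≤ n → ∀ (C : DCoh.D Y), C.IsGE 0 → C.IsLE b → DCoh.IsCohD C →
      (∀ (q : ℕ) (y : Y), y ∈ CohB1.support (DCoh.HD C (q : ℤ)) →
        ((q - k' : ℕ) : WithBot ℕ∞) ≤ ringKrullDim (Y.presheaf.stalk y)) →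
      Subsingleton (((T Y).obj G).obj C ⟶ DCoh.inD Y W) := by
  intro n
  induction n with
  | zero =>
    intro b hb C _ _ _ _
    have hz : IsZero (((T Y).obj G).obj C) := ((T Y).obj G).map_isZero (t.isZero C b 0 (by omega))
    exact ⟨fun f g => hz.eq_of_src f g⟩
  | succ n ih =>
    intro b hb C _ _ hcoh hC
    rcases lt_or_ge b 0 with hb0 | hb0
    · exact ih b (by omega) C inferInstance inferInstance hcoh hC
    haveI : DerivedCategory.IsGE ((t.truncGE b).obj C) b := inferInstanceAs (t.IsGE _ b)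
    haveI : DerivedCategory.IsLE ((t.truncGE b).obj C) b := DTrunc.isLE_truncGE C b b
    obtain ⟨M, ⟨e⟩⟩ := ((t.truncGE b).obj C).exists_iso_singleFunctor_obj_of_isGE_of_isLE b
    haveI := DTrunc.isIso_homology_truncGEπ C b b le_rfl
    let eM : DCoh.HD C b ≅ M :=
      @asIso _ _ _ _ ((DerivedCategory.homologyFunctor Y.Modules b).map ((t.truncGEπ b).app C)) ‹_› ≪≫
        (DerivedCategory.homologyFunctor _ b).mapIso e ≪≫
        (DerivedCategory.singleFunctorCompHomologyFunctorIso Y.Modules b).app M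
    obtain ⟨bn, rfl⟩ := Int.eq_ofNat_of_zero_le hb0
    have hM : Coh.IsCoh M := H10Coh.isCoh_of_iso eM (hcoh _)
    have hMd : ∀ y ∈ CohB1.support M,
        ((bn - k' : ℕ) : ℕ∞) ≤ LocCoh.depth (Y.presheaf.stalk y) (W.presheaf.stalk y) := fun y hy => by
      have h := (hC bn y ((MVPush.support_iso eM).ge hy)).trans (hdep y).ge
      exact WithBot.coe_le_coe.1 h
    haveI := isGE_R_inD M W hM hW (bn - k') hMd
    haveI : DerivedCategory.IsLE (G⟦(-(bn : ℤ))⟧) (-(k' : ℤ) - 1 + bn) :=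
      t.isLE_shift G (-(k' : ℤ) - 1) (-(bn : ℤ)) (-(k' : ℤ) - 1 + bn) (by omega)
    have h₃ : Subsingleton (((T Y).obj G).obj ((t.truncGE (bn : ℤ)).obj C) ⟶ DCoh.inD Y W) := by
      let eS : (t.truncGE (bn : ℤ)).obj C ≅ (DCoh.inD Y M)⟦(-(bn : ℤ))⟧ :=
        e ≪≫ (((DerivedCategory.singleFunctors Y.Modules).shiftIso (-(bn : ℤ)) (bn : ℤ) 0 (by omega)).app M).symm
      have h0 : Subsingleton (G⟦(-(bn : ℤ))⟧ ⟶ (R (DCoh.inD Y M)).obj (DCoh.inD Y W)) :=
        ⟨fun f g => (t.zero f (-(k' : ℤ) - 1 + bn) ((bn - k' : ℕ) : ℤ) (by omega)).trans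
          (t.zero g (-(k' : ℤ) - 1 + bn) ((bn - k' : ℕ) : ℤ) (by omega)).symm⟩
      have h1 : Subsingleton (((T Y).obj (G⟦(-(bn : ℤ))⟧)).obj (DCoh.inD Y M) ⟶ DCoh.inD Y W) :=
        @Equiv.subsingleton _ _ ((Dual.adjR (DCoh.inD Y M)).homEquiv _ _) h0
      exact @Equiv.subsingleton _ _
        (Iso.homCongr (((T Y).obj G).mapIso eS ≪≫ tensorShiftSwap _ _ _) (Iso.refl _)) h1
    haveI : DerivedCategory.IsGE ((t.truncLT (bn : ℤ)).obj C) 0 := inferInstanceAs (t.IsGE _ 0)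
    haveI : DerivedCategory.IsLE ((t.truncLT (bn : ℤ)).obj C) ((bn : ℤ) - 1) := inferInstanceAs (t.IsLE _ _)
    have hiso : ∀ j : ℤ, j < bn → Nonempty (DCoh.HD ((t.truncLT (bn : ℤ)).obj C) j ≅ DCoh.HD C j) := fun j hj =>
      ⟨@asIso _ _ _ _ ((DerivedCategory.homologyFunctor Y.Modules j).map ((t.truncLTι (bn : ℤ)).app C))
        (DTrunc.isIso_homology_truncLTι C (bn : ℤ) j hj)⟩
    have h₁ : Subsingleton (((T Y).obj G).obj ((t.truncLT (bn : ℤ)).obj C) ⟶ DCoh.inD Y W) := by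
      refine ih ((bn : ℤ) - 1) (by omega) _ inferInstance inferInstance (fun j => ?_) (fun q y hy => ?_)
      · rcases lt_or_ge j (bn : ℤ) with hj | hj
        · exact H10Coh.isCoh_of_iso (hiso j hj).some.symm (hcoh j)
        · exact Dual.isCoh_isZero (DerivedCategory.isZero_of_isLE _ ((bn : ℤ) - 1) j (by omega))
      · rcases lt_or_ge (q : ℤ) (bn : ℤ) with hq | hq
        · exact hC q y ((MVPush.support_iso (hiso _ hq).some).le hy)
        · exact absurd hy (by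
            rw [Thomason.support_eq_empty_of_isZero
              (DerivedCategory.isZero_of_isLE _ ((bn : ℤ) - 1) (q : ℤ) (by omega))]
            exact Set.notMem_empty y)
    obtain ⟨T', hT', ⟨e₁⟩, ⟨e₂⟩, ⟨e₃⟩⟩ :=
      Dual.exists_triangle_TObj G (t.triangleLTGE_distinguished (bn : ℤ) C)
    have g₁ : Subsingleton (T'.obj₁ ⟶ DCoh.inD Y W) :=
      @Equiv.subsingleton _ _ (Iso.homCongr e₁ (Iso.refl _)) h₁
    have g₃ : Subsingleton (T'.obj₃ ⟶ DCoh.inD Y W) :=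
      @Equiv.subsingleton _ _ (Iso.homCongr e₃ (Iso.refl _)) h₃
    have g₂ : Subsingleton (T'.obj₂ ⟶ DCoh.inD Y W) := subsingleton_of_forall_eq 0 fun f => by
      obtain ⟨φ, hφ⟩ := Triangle.yoneda_exact₂ T' hT' f (g₁.elim _ _)
      rw [hφ, g₃.elim φ 0]
      exact comp_zero
    exact @Equiv.subsingleton _ _ (Iso.homCongr e₂ (Iso.refl _)).symm g₂

/-- `RHom(C, W)` lives in degrees `≥ -k'` if `C ≥ 0` is `GV_{k'}`. -/
theorem isGE_R_gv [IsLocallyNoetherian Y] [CompactSpace Y] (W : Y.Modules) (hW : Coh.IsCoh W)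
    (hdep : ∀ y, ((LocCoh.depth (Y.presheaf.stalk y) (W.presheaf.stalk y) : ℕ∞) : WithBot ℕ∞) =
      ringKrullDim (Y.presheaf.stalk y)) (k' : ℕ) (C : DCoh.D Y) (hC : DCoh.IsPerfect C) [C.IsGE 0]
    (hgv : ∀ (q : ℕ) (y : Y), y ∈ CohB1.support (DCoh.HD C (q : ℤ)) →
        ((q - k' : ℕ) : WithBot ℕ∞) ≤ ringKrullDim (Y.presheaf.stalk y)) :
    ((R C).obj (DCoh.inD Y W)).IsGE (-(k' : ℤ)) := by
  obtain ⟨-, r, -, hr⟩ := FMKWit.exists_bounds_of_isPerfect hC
  haveI := hr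
  refine (t.isGE_iff_orthogonal (-(k' : ℤ) - 1) (-(k' : ℤ)) (by omega) _).2 fun G f hG => ?_
  haveI : G.IsLE (-(k' : ℤ) - 1) := hG
  have h : Subsingleton (((T Y).obj G).obj C ⟶ DCoh.inD Y W) :=
    subsingleton_hom_tensor W hW hdep k' G (r + 1).toNat r (by omega) C inferInstance hr
      (FMKWit.isCohD_of_isPerfect hC) hgv
  exact ((Dual.adjR C).homEquiv G _).symm.injective (@Subsingleton.elim _ h _ _)

variable {k : Type u} [Field k] {X : Scheme.{u}} (a : X ⟶ Spec (CommRingCat.of k)) (b : Y ⟶ Spec (CommRingCat.of k))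
  [IsProper a] [IsProper b]

/-- `Φ_{H ⊗ q^*W}(A) ≅ Φ_H(A) ⊗ W`. -/
theorem nonempty_phi_twist [DCoh.HasLpull (pullback.fst a b)] [DCoh.HasRpush (pullback.snd a b)]
    {P₀ H : (pullback a b).Modules} (hP₀ : FlatMod.IsFinLocFree P₀) (hH : FlatMod.IsFinLocFree H)
    (eH : DCoh.inD _ H ≅ ro (DCoh.inD _ P₀)) (W : Y.Modules) (hW : Coh.IsQCoh W)
    {A : DCoh.D X} (hA : DCoh.IsQCohD A) :
    Nonempty ((DCoh.Rpush (pullback.snd a b)).obj (((T _).obj ((DCoh.Lpull (pullback.fst a b)).obj A)).obj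
        (DCoh.inD _ (CohB1.tensorMod H ((Scheme.Modules.pullback (pullback.snd a b)).obj W)))) ≅
      ((T Y).obj ((DCoh.Rpush (pullback.snd a b)).obj (((T _).obj ((DCoh.Lpull (pullback.fst a b)).obj A)).obj
        (ro (DCoh.inD _ P₀))))).obj (DCoh.inD Y W)) := by
  let p := pullback.fst a b
  let q := pullback.snd a b
  haveI : Flat a := inferInstance
  haveI : Flat q := inferInstance
  haveI := hasLpull q
  obtain ⟨eq⟩ := H17.DiagTensor.nonempty_lpull_inD q W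
  let qW := (Scheme.Modules.pullback q).obj W
  obtain ⟨et⟩ := H02CA.StrongGen.nonempty_inD_tensor qW H (isFlat_of_isFinLocFree hH)
  let eQ : DCoh.inD _ (CohB1.tensorMod H qW) ≅ ((T _).obj (ro (DCoh.inD _ P₀))).obj ((DCoh.Lpull q).obj (DCoh.inD Y W)) :=
    (DerivedCategory.singleFunctor _ 0).mapIso (H10Coh.Tw.commIso H qW) ≪≫ et ≪≫
      ((T _).mapIso eq.symm).app _ ≪≫ ((T _).obj _).mapIso eH ≪≫ σ _ _
  let E := ((T _).obj ((DCoh.Lpull p).obj A)).obj (ro (DCoh.inD _ P₀))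
  have hE : DCoh.IsQCohD E := QCohD.isQCohD_iso (Dual.θIso (isPerfect_inD hP₀) ((DCoh.Lpull p).obj A)).symm
    (LeadBrown.isQCohD_R_perfect (isPerfect_inD hP₀) (QCohD.isQCohD_lpull p hA))
  obtain ⟨e⟩ := H02CA.StrongGen.nonempty_projection q hE (F := DCoh.inD Y W)
    (H25FM.isQCohD_inD hW)
  exact ⟨(DCoh.Rpush q).mapIso (((T _).obj _).mapIso eQ ≪≫ (α _ _ _).symm) ≪≫ e⟩

/-- A transform with a module as kernel. -/
theorem nonempty_phi_single [DCoh.HasLpull (pullback.fst a b)] [DCoh.HasRpush (pullback.snd a b)]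
    (M : (pullback a b).Modules)
    [DCoh.HasLTensorCx ((HomologicalComplex.single (pullback a b).Modules (ComplexShape.up ℤ) 0).obj M)]
    (K : DCoh.D X) :
    Nonempty ((FMK.phi a b ((HomologicalComplex.single (pullback a b).Modules (ComplexShape.up ℤ) 0).obj M)).obj K ≅
      (DCoh.Rpush (pullback.snd a b)).obj
        (((T _).obj ((DCoh.Lpull (pullback.fst a b)).obj K)).obj (DCoh.inD _ M))) :=
  ⟨(DCoh.Rpush (pullback.snd a b)).mapIso ((Dual.ltensorCxIsoT _).symm.app _ ≪≫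
    ((T _).obj _).mapIso ((DerivedCategory.singleFunctorIsoCompQ (pullback a b).Modules 0).app M).symm)⟩

omit [IsProper a] [IsProper b] in
theorem nonempty_rsheafHom_single {X : Scheme.{u}} (F : X.Modules)
    [DCoh.HasLTensorCx ((HomologicalComplex.single X.Modules (ComplexShape.up ℤ) 0).obj F)]
    [DCoh.HasRSheafHom ((HomologicalComplex.single X.Modules (ComplexShape.up ℤ) 0).obj F)] (L : DCoh.D X) :
    Nonempty ((DCoh.RSheafHom ((HomologicalComplex.single X.Modules (ComplexShape.up ℤ) 0).obj F)).obj L ≅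
      (R (DCoh.inD X F)).obj L) :=
  ⟨(Dual.rsheafHomIso _).app L ≪≫
    (Dual.RIso ((DerivedCategory.singleFunctorIsoCompQ X.Modules 0).app F).symm).app L⟩

omit [IsProper a] [IsProper b] in
/-- The dual of a finite locally free module is its sheaf Hom into the structure module. -/
theorem nonempty_ro_inD' {Z : Scheme.{u}} [IsLocallyNoetherian Z] {P₀ : Z.Modules} (hP₀ : FlatMod.IsFinLocFree P₀)
    [DCoh.HasSheafHom P₀] :
    Nonempty (DCoh.inD Z ((DCoh.sheafHom P₀).obj (Coh.structureModule Z)) ≅ ro (DCoh.inD Z P₀)) := by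
  have hPD := isPerfect_inD hP₀
  haveI : DerivedCategory.IsGE (one Z) 0 :=
    ⟨(t.ge 0).prop_of_iso Dual.oneIso (t.ge_of_isGE (DCoh.inD Z (Coh.structureModule Z)) 0)⟩
  refine nonempty_ro_inD hP₀ ?_ ?_
  · simpa using Dual.isGE_R (k := DCoh.inD Z P₀) 0 (one Z) 0
  · refine isLE_ro_of_fibres hPD fun z _ m hm => ?_
    obtain ⟨e⟩ := H25FM.nonempty_lpull_inD (Z.fromSpecResidueField z) (isFlat_of_isFinLocFree hP₀)
    exact (DerivedCategory.isZero_of_isGE (DCoh.inD _ _) 0 m hm).of_iso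
      ((DerivedCategory.homologyFunctor _ m).mapIso e)

omit [IsProper a] [IsProper b] in
/-- `H^i` of an object that becomes `RHom(C, W)` after shifting by `d`. -/
theorem isZero_of_shift_iso [IsLocallyNoetherian Y] [CompactSpace Y] (W : Y.Modules) (hW : Coh.IsCoh W)
    (hdep : ∀ y, ((LocCoh.depth (Y.presheaf.stalk y) (W.presheaf.stalk y) : ℕ∞) : WithBot ℕ∞) =
      ringKrullDim (Y.presheaf.stalk y)) (k' : ℕ) (C : DCoh.D Y) (hC : DCoh.IsPerfect C) [(ro C).IsLE 0]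
    (hgv : ∀ (q : ℕ) (y : Y), y ∈ CohB1.support (DCoh.HD C (q : ℤ)) →
        ((q - k' : ℕ) : WithBot ℕ∞) ≤ ringKrullDim (Y.presheaf.stalk y))
    (Φ B : DCoh.D Y) (d : ℕ) (eΦ : Φ ≅ ((T Y).obj B).obj (DCoh.inD Y W)) (eB : ro C ≅ B⟦(d : ℤ)⟧)
    (i : ℤ) (hi : i < (d : ℤ) - k' ∨ (d : ℤ) < i) : IsZero (DCoh.HD Φ i) := by
  haveI := isGE_of_isLE_ro hC
  let WD := DCoh.inD Y W
  let eR : Φ⟦(d : ℤ)⟧ ≅ ((T Y).obj (ro C)).obj WD :=
    (shiftFunctor _ (d : ℤ)).mapIso eΦ ≪≫ (tensorShiftLeft _ _ _).symm ≪≫ ((T Y).mapIso eB.symm).app _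
  haveI : DerivedCategory.IsLE (((T Y).obj (ro C)).obj WD) 0 := by simpa using isLE_T (ro C) WD 0 0
  haveI := isGE_R_gv W hW hdep k' C hC hgv
  haveI : DerivedCategory.IsGE (((T Y).obj (ro C)).obj WD) (-(k' : ℤ)) :=
    ⟨(t.ge _).prop_of_iso ((Dual.θIso hC WD).symm ≪≫ σ _ _) (t.ge_of_isGE _ (-(k' : ℤ)))⟩
  refine IsZero.of_iso ?_ ((((DerivedCategory.homologyFunctor Y.Modules 0).shiftIso (d : ℤ) (i - d) i
    (by omega)).app _).symm ≪≫ (DerivedCategory.homologyFunctor _ (i - d)).mapIso eR)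
  rcases hi with h | h
  · exact DerivedCategory.isZero_of_isGE _ (-(k' : ℤ)) (i - d) (by omega)
  · exact DerivedCategory.isZero_of_isLE _ 0 (i - d) (by omega)

end Groth.Agent.H16Derived.FMKDual
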